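import Cfsg.Agent.Lib.Char.Exceptional.PSLChambers

/-!
# Permutations commuting with the reversal: blocks, longest elements, the sign
-/

set_option autoImplicit false

namespace CfsgLib.TwistedFlags

open Finset

variable {N : ℕ}

/-- The index set of the orbits of simple reflections. -/
abbrev Idx (N : ℕ) : Type := {i : ℕ // 2 * i + 2 ≤ N}

/-- The block label of an orbit: merge `i, i + 1` and the mirrored pair. -/
def lab (i : Idx N) (k : Fin N) : ℕ :=
  if i.1 = N - 2 - i.1 then (if i.1 < k.val then k.val - 1 else k.val)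
  else if N - 2 - i.1 < k.val then k.val - 2 else if i.1 < k.val then k.val - 1 else k.val

theorem lab_mono (i : Idx N) : Monotone (lab i) := fun a b hab => by
  have := i.2
  rw [Fin.le_def] at hab
  unfold lab
  split_ifs <;> omega

theorem lab_rev_eq (i : Idx N) {a b : Fin N} (h : lab i a = lab i b) : lab i a.rev = lab i b.rev := by
  have := i.2
  have := a.isLt
  have := b.isLt
  unfold lab at h ⊢
  simp only [Fin.val_rev] at h ⊢
  split_ifs at h ⊢ <;> omega

/-- `i` as a position. -/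
def pA (i : Idx N) : Fin N := ⟨i.1, by have := i.2; omega⟩
/-- `i + 1` as a position. -/
def pB (i : Idx N) : Fin N := ⟨i.1 + 1, by have := i.2; omega⟩

theorem pA_ne_pB (i : Idx N) : pA i ≠ pB i := fun h => by simp [pA, pB, Fin.ext_iff] at h

/-- The longest element of an orbit. -/
def wJ (i : Idx N) : Equiv.Perm (Fin N) :=
  if i.1 + 1 = N - 2 - i.1 then Equiv.swap (pA i) (pA i).rev
  else if i.1 = N - 2 - i.1 then Equiv.swap (pA i) (pB i)
  else Equiv.swap (pA i) (pB i) * Equiv.swap (pB i).rev (pA i).rev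

theorem wJ_val (i : Idx N) (k : Fin N) : (wJ i k).val =
    if i.1 + 1 = N - 2 - i.1 then
      (if k.val = i.1 then i.1 + 2 else if k.val = i.1 + 2 then i.1 else k.val)
    else if k.val = i.1 then i.1 + 1 else if k.val = i.1 + 1 then i.1
    else if i.1 ≠ N - 2 - i.1 ∧ k.val = N - 2 - i.1 then N - 1 - i.1
    else if i.1 ≠ N - 2 - i.1 ∧ k.val = N - 1 - i.1 then N - 2 - i.1 else k.val := by
  have := i.2
  unfold wJ
  by_cases h1 : i.1 + 1 = N - 2 - i.1
  · rw [if_pos h1, if_pos h1, Equiv.swap_apply_def]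
    split_ifs <;> (try simp only [pA, Fin.ext_iff, Fin.val_rev] at *) <;> omega
  rw [if_neg h1, if_neg h1]
  by_cases h2 : i.1 = N - 2 - i.1
  · rw [if_pos h2, Equiv.swap_apply_def]
    split_ifs <;> (try simp only [pA, pB, Fin.ext_iff] at *) <;> omega
  rw [if_neg h2, Equiv.Perm.mul_apply]
  have eA : (pA i).val = i.1 := rfl
  have eB : (pB i).val = i.1 + 1 := rfl
  have eA' : ((pA i).rev).val = N - (i.1 + 1) := Fin.val_rev _
  have eB' : ((pB i).rev).val = N - (i.1 + 2) := Fin.val_rev _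
  by_cases hk1 : k = (pB i).rev
  · subst hk1
    rw [Equiv.swap_apply_left, Equiv.swap_apply_of_ne_of_ne (by rw [Ne, Fin.ext_iff]; omega)
      (by rw [Ne, Fin.ext_iff]; omega)]
    split_ifs <;> omega
  by_cases hk2 : k = (pA i).rev
  · subst hk2
    rw [Equiv.swap_apply_right, Equiv.swap_apply_of_ne_of_ne (by rw [Ne, Fin.ext_iff]; omega)
      (by rw [Ne, Fin.ext_iff]; omega)]
    split_ifs <;> omega
  rw [Equiv.swap_apply_of_ne_of_ne hk1 hk2, Equiv.swap_apply_def]
  rw [Fin.ext_iff] at hk1 hk2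
  simp only [Fin.ext_iff]
  split_ifs <;> omega

theorem wJ_lab (i : Idx N) (k : Fin N) : lab i (wJ i k) = lab i k := by
  have := i.2
  have h := wJ_val i k
  unfold lab
  split_ifs at h ⊢ <;> omega

theorem wJ_rev_lt (i : Idx N) {a b : Fin N} (h : lab i a = lab i b) (hab : a < b) : wJ i b < wJ i a := by
  have := i.2
  have := b.isLt
  rw [Fin.lt_def] at hab ⊢
  have h1 := wJ_val i a
  have h2 := wJ_val i b
  unfold lab at h
  split_ifs at h h1 h2 <;> omega

theorem wJ_comm (i : Idx N) (k : Fin N) : wJ i k.rev = (wJ i k).rev := by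
  have := i.2
  have := k.isLt
  have h1 := wJ_val i k
  have h2 := wJ_val i k.rev
  apply Fin.ext
  simp only [Fin.val_rev] at h2 ⊢
  split_ifs at h1 h2 <;> omega

theorem wJ_mul_self (i : Idx N) : wJ i * wJ i = 1 := by
  refine Equiv.ext fun k => Fin.ext ?_
  have := i.2
  have h1 := wJ_val i k
  have h2 := wJ_val i (wJ i k)
  rw [Equiv.Perm.mul_apply, Equiv.Perm.one_apply]
  split_ifs at h1 h2 <;> omega

/-- Commuting with the reversal. -/
def RevComm (σ : Equiv.Perm (Fin N)) : Prop := ∀ k, σ k.rev = (σ k).rev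

theorem RevComm.mul {σ τ : Equiv.Perm (Fin N)} (hσ : RevComm σ) (hτ : RevComm τ) : RevComm (σ * τ) :=
  fun k => by simp only [Equiv.Perm.mul_apply, hτ k, hσ (τ k)]

theorem RevComm.inv {σ : Equiv.Perm (Fin N)} (hσ : RevComm σ) : RevComm σ⁻¹ := fun k =>
  σ.injective (by rw [Equiv.Perm.inv_def, Equiv.apply_symm_apply, hσ, Equiv.apply_symm_apply])

theorem lab_pA_pB (i : Idx N) : lab i (pA i) = lab i (pB i) := by
  have := i.2
  have eA : (pA i).val = i.1 := rfl
  have eB : (pB i).val = i.1 + 1 := rfl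
  unfold lab
  rw [eA, eB]
  split_ifs <;> omega

theorem lab_pA_rev {i : Idx N} (h : i.1 + 1 = N - 2 - i.1) : lab i (pA i) = lab i (pA i).rev := by
  have := i.2
  have eA : (pA i).val = i.1 := rfl
  have eA' : ((pA i).rev).val = N - (i.1 + 1) := Fin.val_rev _
  unfold lab
  rw [eA, eA']
  split_ifs <;> omega

theorem lab_eq_cases (i : Idx N) {a b : Fin N} (h : lab i a = lab i b) (hab : a < b) :
    (a = pA i ∧ b = pB i) ∨ (a = (pB i).rev ∧ b = (pA i).rev) ∨
      (a = pA i ∧ b = (pA i).rev ∧ i.1 + 1 = N - 2 - i.1) := by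
  have := i.2
  have := b.isLt
  have eA : (pA i).val = i.1 := rfl
  have eB : (pB i).val = i.1 + 1 := rfl
  have eA' : ((pA i).rev).val = N - (i.1 + 1) := Fin.val_rev _
  have eB' : ((pB i).rev).val = N - (i.1 + 2) := Fin.val_rev _
  rw [Fin.lt_def] at hab
  simp only [Fin.ext_iff]
  unfold lab at h
  split_ifs at h <;> omega

theorem eq_one_or_wJ (i : Idx N) {σ : Equiv.Perm (Fin N)} (hc : RevComm σ)
    (hle : ∀ k, lab i (σ k) ≤ lab i k) : σ = 1 ∨ σ = wJ i := by
  have hsum : ∑ k, lab i (σ k) = ∑ k : Fin N, lab i k := Equiv.sum_comp σ (lab i)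
  have heq : ∀ k, lab i (σ k) = lab i k := fun k =>
    (sum_eq_sum_iff_of_le fun k _ => hle k).1 hsum k (mem_univ k)
  have := i.2
  have eA : (pA i).val = i.1 := rfl
  have eB : (pB i).val = i.1 + 1 := rfl
  have eA' : ((pA i).rev).val = N - (i.1 + 1) := Fin.val_rev _
  have eB' : ((pB i).rev).val = N - (i.1 + 2) := Fin.val_rev _
  have hout : ∀ k, k ≠ pA i → k ≠ pB i → k ≠ (pA i).rev → k ≠ (pB i).rev → σ k = k := by
    intro k h1 h2 h3 h4
    by_contra hne
    rcases lt_or_gt_of_ne hne with e | e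
    · rcases lab_eq_cases i (heq k) e with h | h | h
      · exact h2 h.2
      · exact h3 h.2
      · exact h3 h.2.1
    · rcases lab_eq_cases i (heq k).symm e with h | h | h
      · exact h1 h.1
      · exact h4 h.1
      · exact h1 h.1
  have hA : (σ (pA i)).val = i.1 ∨ ((σ (pA i)).val = i.1 + 1) ∨ (i.1 + 1 = N - 2 - i.1 ∧ (σ (pA i)).val = i.1 + 2) := by
    have h := heq (pA i)
    unfold lab at h
    rw [eA] at h
    split_ifs at h <;> omega
  have hB : ((σ (pB i)).val = i.1 ∨ (σ (pB i)).val = i.1 + 1 ∨ (i.1 + 1 = N - 2 - i.1 ∧ (σ (pB i)).val = i.1 + 2)) := by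
    have h := heq (pB i)
    unfold lab at h
    rw [eB] at h
    split_ifs at h <;> omega
  have hmid : i.1 + 1 = N - 2 - i.1 → (σ (pB i)).val = i.1 + 1 := fun hO => by
    have e : (pB i).rev = pB i := Fin.ext (by omega)
    have h := congrArg Fin.val (hc (pB i))
    rw [e, Fin.val_rev] at h
    omega
  have hinj : (σ (pA i)).val ≠ (σ (pB i)).val := fun e => pA_ne_pB i (σ.injective (Fin.ext e))
  have hrA : (σ (pA i).rev).val = N - ((σ (pA i)).val + 1) := by rw [hc, Fin.val_rev]
  have hrB : (σ (pB i).rev).val = N - ((σ (pB i)).val + 1) := by rw [hc, Fin.val_rev]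
  by_cases h : (σ (pA i)).val = i.1
  · refine Or.inl (Equiv.ext fun k => ?_)
    rw [Equiv.Perm.one_apply]
    by_cases h1 : k = pA i
    · subst h1; exact Fin.ext (by omega)
    by_cases h2 : k = pB i
    · subst h2; exact Fin.ext (by omega)
    by_cases h3 : k = (pA i).rev
    · subst h3; exact Fin.ext (by omega)
    by_cases h4 : k = (pB i).rev
    · subst h4; exact Fin.ext (by omega)
    exact hout k h1 h2 h3 h4
  · refine Or.inr (Equiv.ext fun k => Fin.ext ?_)
    rw [wJ_val]
    by_cases h1 : k = pA i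
    · subst h1; split_ifs <;> omega
    by_cases h2 : k = pB i
    · subst h2; split_ifs <;> omega
    by_cases h3 : k = (pA i).rev
    · subst h3; split_ifs <;> omega
    by_cases h4 : k = (pB i).rev
    · subst h4; split_ifs <;> omega
    rw [hout k h1 h2 h3 h4]
    rw [Fin.ext_iff] at h1 h2 h3 h4
    split_ifs <;> omega

theorem exists_ascent {σ : Equiv.Perm (Fin N)} (hc : RevComm σ) (hσ : σ ≠ Fin.revPerm) :
    ∃ i : Idx N, ∀ a b : Fin N, lab i a = lab i b → a < b → σ a < σ b := by
  obtain ⟨j, j', hj, hlt⟩ : ∃ j j' : Fin N, j'.val = j.val + 1 ∧ σ j < σ j' := by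
    by_contra hno
    push Not at hno
    exact hσ (CfsgLib.PSLSteinberg.eq_revPerm_of_no_ascent fun a b hab => lt_of_le_of_ne (hno a b hab)
      fun e => by rw [σ.injective e] at hab; omega)
  have := j'.isLt
  obtain ⟨i, hi⟩ : ∃ i : Idx N, σ (pA i) < σ (pB i) := by
    rcases le_total j.val (N - 2 - j.val) with hm | hm
    · refine ⟨⟨j.val, by omega⟩, ?_⟩
      rw [show pA (⟨j.val, by omega⟩ : Idx N) = j from Fin.ext rfl,
        show pB (⟨j.val, by omega⟩ : Idx N) = j' from Fin.ext (by simp only [pB]; omega)]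
      exact hlt
    · refine ⟨⟨N - 2 - j.val, by omega⟩, ?_⟩
      rw [show pA (⟨N - 2 - j.val, by omega⟩ : Idx N) = j'.rev from Fin.ext (by simp only [pA, Fin.val_rev]; omega),
        show pB (⟨N - 2 - j.val, by omega⟩ : Idx N) = j.rev from Fin.ext (by simp only [pB, Fin.val_rev]; omega),
        hc, hc]
      exact Fin.rev_lt_rev.2 hlt
  refine ⟨i, fun a b hab hlt' => ?_⟩
  rcases lab_eq_cases i hab hlt' with ⟨rfl, rfl⟩ | ⟨rfl, rfl⟩ | ⟨rfl, rfl, hO⟩
  · exact hi
  · rw [hc, hc]; exact Fin.rev_lt_rev.2 hi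
  · have e : (pB i).rev = pB i := Fin.ext (by
      have := i.2
      rw [Fin.val_rev]; show N - (i.1 + 1 + 1) = i.1 + 1; omega)
    have h := Fin.rev_lt_rev.2 hi
    rw [← hc, ← hc, e] at h
    exact hi.trans h

/-- The permutation induced on the pairs of mirrored positions. -/
def pairFun (σ : Equiv.Perm (Fin N)) (k : Fin N) : Fin N :=
  if k.val < k.rev.val then min (σ k) (σ k).rev else k

theorem pairFun_mul {σ τ : Equiv.Perm (Fin N)} (hσ : RevComm σ) (hτ : RevComm τ) (k : Fin N) :
    pairFun (σ * τ) k = pairFun σ (pairFun τ k) := by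
  unfold pairFun
  by_cases h : k.val < k.rev.val
  · have hne : (τ k) ≠ (τ k).rev := fun e => by
      have := τ.injective (show τ k = τ k.rev by rw [hτ]; exact e)
      rw [← this] at h; omega
    have hm : (min (τ k) (τ k).rev).val < (min (τ k) (τ k).rev).rev.val := by
      rcases lt_or_gt_of_ne hne with e | e
      · rw [min_eq_left e.le]; exact Fin.lt_def.1 e
      · rw [min_eq_right e.le, Fin.rev_rev]; exact Fin.lt_def.1 e
    rw [if_pos h, if_pos h, if_pos hm, Equiv.Perm.mul_apply]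
    rcases le_total (τ k) (τ k).rev with e | e
    · rw [min_eq_left e]
    · rw [min_eq_right e, hσ, Fin.rev_rev, min_comm]
  · rw [if_neg h, if_neg h, if_neg h]

theorem pairFun_one (k : Fin N) : pairFun 1 k = k := by
  unfold pairFun
  by_cases h : k.val < k.rev.val
  · rw [if_pos h, Equiv.Perm.one_apply, min_eq_left (Fin.le_def.2 h.le)]
  · rw [if_neg h]

/-- The induced permutation as an element of the symmetric group. -/
def pairPerm (σ : Equiv.Perm (Fin N)) (hσ : RevComm σ) : Equiv.Perm (Fin N) where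
  toFun := pairFun σ
  invFun := pairFun σ⁻¹
  left_inv k := by rw [← pairFun_mul hσ.inv hσ, inv_mul_cancel, pairFun_one]
  right_inv k := by rw [← pairFun_mul hσ hσ.inv, mul_inv_cancel, pairFun_one]

/-- The sign character of the group of permutations commuting with the reversal. -/
noncomputable def bSign (σ : {σ : Equiv.Perm (Fin N) // RevComm σ}) : ℤˣ :=
  Equiv.Perm.sign σ.1 * Equiv.Perm.sign (pairPerm σ.1 σ.2)

theorem bSign_mul (σ τ : {σ : Equiv.Perm (Fin N) // RevComm σ}) :
    bSign ⟨σ.1 * τ.1, σ.2.mul τ.2⟩ = bSign σ * bSign τ := by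
  have h : pairPerm (σ.1 * τ.1) (σ.2.mul τ.2) = pairPerm σ.1 σ.2 * pairPerm τ.1 τ.2 :=
    Equiv.ext fun k => pairFun_mul σ.2 τ.2 k
  unfold bSign
  simp only [h, map_mul]
  exact mul_mul_mul_comm _ _ _ _

theorem bSign_wJ (i : Idx N) : bSign ⟨wJ i, wJ_comm i⟩ = -1 := by
  have := i.2
  unfold bSign
  by_cases hA : i.1 + 1 = N - 2 - i.1 ∨ i.1 = N - 2 - i.1
  · have h : pairPerm (wJ i) (wJ_comm i) = 1 := Equiv.ext fun k => by
      show pairFun (wJ i) k = k
      unfold pairFun
      by_cases hk : k.val < k.rev.val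
      · rw [if_pos hk]
        apply Fin.ext
        have hw := wJ_val i k
        have hwr : ((wJ i k).rev).val = N - ((wJ i k).val + 1) := Fin.val_rev _
        have := k.isLt
        rw [Fin.val_rev] at hk
        rcases le_total (wJ i k) (wJ i k).rev with e | e <;>
          [rw [min_eq_left e]; rw [min_eq_right e]] <;> rw [Fin.le_def] at e <;>
          split_ifs at hw <;> omega
      · rw [if_neg hk]
    dsimp only
    rw [h, map_one, mul_one]
    unfold wJ
    split_ifs with h1 h2
    · exact Equiv.Perm.sign_swap (fun e => by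
        simp only [pA, Fin.ext_iff, Fin.val_rev] at e; omega)
    · exact Equiv.Perm.sign_swap (pA_ne_pB i)
    · omega
  · push Not at hA
    have h : pairPerm (wJ i) (wJ_comm i) = Equiv.swap (pA i) (pB i) := Equiv.ext fun k => by
      show pairFun (wJ i) k = _
      unfold pairFun
      apply Fin.ext
      have hw := wJ_val i k
      have hwr : ((wJ i k).rev).val = N - ((wJ i k).val + 1) := Fin.val_rev _
      have := k.isLt
      by_cases hk : k.val < k.rev.val
      · rw [if_pos hk]
        rw [Fin.val_rev] at hk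
        rcases le_total (wJ i k) (wJ i k).rev with e | e <;>
          [rw [min_eq_left e]; rw [min_eq_right e]] <;> rw [Fin.le_def] at e <;>
          rw [Equiv.swap_apply_def] <;> split_ifs at hw ⊢ <;>
          simp only [pA, pB, Fin.ext_iff] at * <;> omega
      · rw [if_neg hk]
        rw [Fin.val_rev] at hk
        rw [Equiv.swap_apply_def]
        split_ifs <;> simp only [pA, pB, Fin.ext_iff] at * <;> omega
    dsimp only
    rw [h]
    unfold wJ
    rw [if_neg hA.1, if_neg hA.2, map_mul, Equiv.Perm.sign_swap (pA_ne_pB i), Equiv.Perm.sign_swap]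
    · simp
    · exact fun e => pA_ne_pB i (Fin.rev_injective e).symm

theorem rank_swap_lt {F : Type*} [Field F] {σ : Equiv.Perm (Fin N)} {a b : Fin N} (hab : a < b) (h : σ a < σ b) :
    CfsgLib.PSLSteinberg.rank (CfsgLib.GLParabolic.wGL N F σ) <
      CfsgLib.PSLSteinberg.rank (CfsgLib.GLParabolic.wGL N F (σ * Equiv.swap a b)) := by
  classical
  rw [CfsgLib.PSLSteinberg.rank_wGL, CfsgLib.PSLSteinberg.rank_wGL,
    ← add_sum_erase univ _ (mem_univ a), ← add_sum_erase (univ.erase a) _ (mem_erase.2 ⟨(ne_of_lt hab).symm, mem_univ b⟩)]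
  conv_rhs => rw [← add_sum_erase univ _ (mem_univ a),
    ← add_sum_erase (univ.erase a) _ (mem_erase.2 ⟨(ne_of_lt hab).symm, mem_univ b⟩)]
  have hrest : ∑ k ∈ (univ.erase a).erase b, (((σ * Equiv.swap a b) k).val + 1) * (N - k.val) =
      ∑ k ∈ (univ.erase a).erase b, ((σ k).val + 1) * (N - k.val) := sum_congr rfl fun k hk => by
    simp only [mem_erase] at hk
    rw [Equiv.Perm.mul_apply, Equiv.swap_apply_of_ne_of_ne hk.2.1 hk.1]
  simp only [Equiv.Perm.mul_apply, Equiv.swap_apply_left, Equiv.swap_apply_right] at hrest ⊢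
  rw [hrest]
  rw [Fin.lt_def] at hab h
  have := b.isLt
  obtain ⟨u, hu⟩ : ∃ u, N - a.val = (N - b.val) + u + 1 := ⟨N - a.val - (N - b.val) - 1, by omega⟩
  obtain ⟨v, hv⟩ : ∃ v, (σ b).val = (σ a).val + v + 1 := ⟨(σ b).val - (σ a).val - 1, by omega⟩
  rw [hu, hv]
  ring_nf
  omega

theorem rank_wJ_lt {F : Type*} [Field F] (i : Idx N) {σ : Equiv.Perm (Fin N)}
    (h : ∀ a b : Fin N, lab i a = lab i b → a < b → σ a < σ b) :
    CfsgLib.PSLSteinberg.rank (CfsgLib.GLParabolic.wGL N F σ) <
      CfsgLib.PSLSteinberg.rank (CfsgLib.GLParabolic.wGL N F (σ * wJ i)) := by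
  have := i.2
  unfold wJ
  split_ifs with h1 h2
  · have hlt : pA i < (pA i).rev := by rw [Fin.lt_def]; simp only [pA, Fin.val_rev]; omega
    exact rank_swap_lt hlt (h _ _ (lab_pA_rev h1) hlt)
  · have hlt : pA i < pB i := by rw [Fin.lt_def]; simp only [pA, pB]; omega
    exact rank_swap_lt hlt (h _ _ (lab_pA_pB i) hlt)
  · have hlab := lab_pA_pB i
    have hlt : pA i < pB i := by rw [Fin.lt_def]; simp only [pA, pB]; omega
    have hlab' : lab i (pB i).rev = lab i (pA i).rev := lab_rev_eq i hlab.symm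
    have hlt' : (pB i).rev < (pA i).rev := Fin.rev_lt_rev.2 hlt
    rw [← mul_assoc]
    refine (rank_swap_lt hlt (h _ _ hlab hlt)).trans (rank_swap_lt hlt' ?_)
    have hne : ∀ x : Fin N, (x = (pB i).rev ∨ x = (pA i).rev) → x ≠ pA i ∧ x ≠ pB i := by
      rintro x (rfl | rfl) <;> constructor <;> intro e <;>
        simp only [pA, pB, Fin.ext_iff, Fin.val_rev] at e <;> omega
    rw [Equiv.Perm.mul_apply, Equiv.Perm.mul_apply,
      Equiv.swap_apply_of_ne_of_ne (hne _ (Or.inl rfl)).1 (hne _ (Or.inl rfl)).2,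
      Equiv.swap_apply_of_ne_of_ne (hne _ (Or.inr rfl)).1 (hne _ (Or.inr rfl)).2]
    exact h _ _ hlab' hlt'

end CfsgLib.TwistedFlags
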