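import Cfsg.Agent.Lib.Char.Exceptional.Twisted.Subgroups
import Mathlib.GroupTheory.PGroup

/-!
# The Steinberg character of an isometry group of an antidiagonal form
-/

set_option autoImplicit false

namespace CfsgLib.TwistedFlags

open Matrix Finset CfsgLib.GLParabolic CfsgLib.PSLSteinberg

variable {N : ℕ} {F : Type*} [Field F]

/-- A group realised inside the isometry group, containing all its unitriangular elements and all the transposed
ones. -/
structure Realisation (A : Anti N F) (G : Type*) [Group G] where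
  φ : G →* GL (Fin N) F
  inj : Function.Injective φ
  fixed : ∀ g, A.theta (φ g) = φ g
  upper : ∀ u ∈ uni N F, A.theta u = u → u ∈ φ.range
  lower : ∀ v : GL (Fin N) F, A.theta v = v → (∀ a b, a < b → (v : Matrix (Fin N) (Fin N) F) a b = 0) →
    (∀ a, (v : Matrix (Fin N) (Fin N) F) a a = 1) → v ∈ φ.range
  roots : ∀ i : Idx N, ∃ g : GL (Fin N) F, A.theta g = g ∧
    (∀ a b, (g : Matrix (Fin N) (Fin N) F) a b ≠ 0 → lab i a = lab i b ∧ a ≤ b) ∧
    (∀ a, (g : Matrix (Fin N) (Fin N) F) a a = 1) ∧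
    (g : Matrix (Fin N) (Fin N) F) (pA i) (pB i) ≠ 0 ∧
    (g : Matrix (Fin N) (Fin N) F) (pB i).rev (pA i).rev ≠ 0

theorem revConj_eq {σ : Equiv.Perm (Fin N)} : Fin.revPerm * σ * Fin.revPerm = σ ↔ RevComm σ := by
  constructor
  · intro h k
    conv_lhs => rw [← h]
    simp
  · intro h
    refine Equiv.ext fun k => ?_
    simp [h k]

namespace Realisation

variable {A : Anti N F} {G : Type*} [Group G] (R : Realisation A G)

/-- The permutation of a cell met by a fixed flag commutes with the reversal. -/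
theorem revComm_of_fixed {g b₁ b₂ c : GL (Fin N) F} {σ : Equiv.Perm (Fin N)}
    (hg : g = b₁ * wGL N F σ * b₂) (h₁ : b₁ ∈ Cfsg.upperTriangularGL N F) (h₂ : b₂ ∈ Cfsg.upperTriangularGL N F)
    (hc : c ∈ Cfsg.upperTriangularGL N F) (hfix : A.theta g = g * c) : RevComm σ := by
  obtain ⟨d, hd, hθ⟩ := A.theta_wGL σ
  rw [← revConj_eq]
  refine (wGL_eq_of_mem (F := F) (p := b₁⁻¹ * A.theta b₁) (q := d * A.theta b₂ * c⁻¹ * b₂⁻¹)
    (mul_mem (Subgroup.inv_mem _ h₁) (A.inv_mem_borel h₁)) ?_ ?_).symm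
  · exact mul_mem (mul_mem (mul_mem (diagGL_le_borel (mem_diagGL.2 hd)) (A.inv_mem_borel h₂))
      (Subgroup.inv_mem _ hc)) (Subgroup.inv_mem _ h₂)
  · rw [hg, map_mul, map_mul, hθ] at hfix
    have e : wGL N F σ = b₁⁻¹ * (b₁ * wGL N F σ * b₂ * c) * c⁻¹ * b₂⁻¹ := by group
    rw [e, ← hfix]
    group

/-- A monomial element lying over an orbit. -/
theorem exists_monomial (i : Idx N) :
    ∃ g : G, ∃ t ∈ diagGL N F, R.φ g = wGL N F (wJ i) * t := by
  classical
  obtain ⟨r, hr, hr2, hr1, hrA, -⟩ := R.roots i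
  let r' : GL (Fin N) F :=
    ⟨(r : Matrix (Fin N) (Fin N) F)ᵀ, ((r⁻¹ : GL (Fin N) F) : Matrix (Fin N) (Fin N) F)ᵀ,
      by rw [← transpose_mul, ← Units.val_mul, inv_mul_cancel, Units.val_one, transpose_one],
      by rw [← transpose_mul, ← Units.val_mul, mul_inv_cancel, Units.val_one, transpose_one]⟩
  have hr' : A.theta r' = r' := A.theta_transpose rfl hr
  obtain ⟨g₀, hg₀⟩ := R.lower r' hr'
    (fun a b hab => by
      by_contra h
      exact absurd (hr2 b a h).2 (not_le.2 hab))
    (fun a => hr1 a)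
  have hlev : r' ∈ lev F i := mem_lev.2 fun a b hab => by
    by_contra h
    exact hab (hr2 b a h).1.symm
  obtain ⟨b₁, h₁, x, b₂, h₂, hdec⟩ := exists_bruhat r'
  have hx : RevComm x := revComm_of_fixed (A := A) hdec h₁ h₂ (one_mem _) (by rw [hr', mul_one])
  have hxP : wGL N F x ∈ blockGL F (lab i) := by
    rw [show wGL N F x = b₁⁻¹ * r' * b₂⁻¹ by rw [hdec]; group]
    exact mul_mem (mul_mem (Subgroup.inv_mem _ (borel_le_lab i h₁)) (lev_le_block i hlev))
      (Subgroup.inv_mem _ (borel_le_lab i h₂))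
  have hxle : ∀ k, lab i (x k) ≤ lab i k := fun k => by
    by_contra hlt
    have := hxP (not_le.1 hlt)
    simp at this
  rcases eq_one_or_wJ i hx hxle with rfl | rfl
  · exfalso
    rw [map_one, mul_one] at hdec
    refine hrA ?_
    have h : r' ∈ Cfsg.upperTriangularGL N F := hdec ▸ mul_mem h₁ h₂
    exact h (show pA i < pB i from Fin.lt_def.2 (by simp [pA, pB]))
  obtain ⟨L, ⟨hLu, hLl⟩, v, hv, rfl, hvx⟩ := exists_split i h₁
  obtain ⟨u, hu, t, ht, hLt, -⟩ := exists_mul_diag hLu
  subst hLt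
  have hul : u ∈ lev F i := by
    have h := mul_mem hLl (Subgroup.inv_mem _ (diagGL_le_lev i ht))
    rwa [mul_inv_cancel_right] at h
  obtain ⟨d, hd, hθ⟩ := A.theta_wGL (wJ i)
  rw [revConj_eq.2 (wJ_comm i)] at hθ
  replace hd := mem_diagGL.2 hd
  have htx : (wGL N F (wJ i))⁻¹ * t * wGL N F (wJ i) ∈ diagGL N F := mem_diagGL.2 fun a b hab => by
    rw [wGL_conj_apply]; exact mem_diagGL.1 ht _ _ ((wJ i).injective.ne hab)
  obtain ⟨b, hb, hdec'⟩ : ∃ b ∈ Cfsg.upperTriangularGL N F, r' = u * wGL N F (wJ i) * b :=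
    ⟨((wGL N F (wJ i))⁻¹ * t * wGL N F (wJ i)) * ((wGL N F (wJ i))⁻¹ * v * wGL N F (wJ i)) * b₂,
      mul_mem (mul_mem (diagGL_le_borel htx) (hvx _ (wJ_lab i))) h₂, by rw [hdec]; group⟩
  -- the left factor is fixed
  have huθ : A.theta u = u := by
    have h1 : (wGL N F (wJ i))⁻¹ * (u⁻¹ * A.theta u) * wGL N F (wJ i) ∈ Cfsg.upperTriangularGL N F := by
      have hfx := hr'
      rw [hdec', map_mul, map_mul, hθ] at hfx
      have e : (wGL N F (wJ i))⁻¹ * (u⁻¹ * A.theta u) * wGL N F (wJ i) = b * (d * A.theta b)⁻¹ := by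
        have e1 : A.theta u = u * wGL N F (wJ i) * b * (wGL N F (wJ i) * d * A.theta b)⁻¹ := by
          rw [← hfx]; group
        rw [e1]; group
      rw [e]
      exact mul_mem hb (Subgroup.inv_mem _ (mul_mem (diagGL_le_borel hd) (A.inv_mem_borel hb)))
    have h2 : u⁻¹ * A.theta u ∈ uni N F := mul_mem (Subgroup.inv_mem _ hu) (A.theta_uni hu)
    have h3 : u⁻¹ * A.theta u ∈ lev F i := mul_mem (Subgroup.inv_mem _ hul) (A.theta_lev hul)
    have h4 : u⁻¹ * A.theta u ∈ diagGL N F := mem_diagGL.2 fun a c hac => by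
      by_cases hl : lab i a = lab i c
      · rcases lt_or_gt_of_ne hac with h' | h'
        · have hlt := wJ_rev_lt i hl h'
          have h5 := h1 (show wJ i c < wJ i a from hlt)
          rw [wGL_conj_apply] at h5
          have e : ∀ k, wJ i (wJ i k) = k := fun k => by
            rw [← Equiv.Perm.mul_apply, wJ_mul_self, Equiv.Perm.one_apply]
          rwa [e, e] at h5
        · exact (mem_uni.1 h2).1 h'
      · exact mem_lev.1 h3 _ _ hl
    exact (inv_mul_eq_one.1 (uni_eq_one h2 h4)).symm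
  obtain ⟨gu, hgu⟩ := R.upper u hu huθ
  have hg : R.φ (gu⁻¹ * g₀) = wGL N F (wJ i) * b := by
    rw [map_mul, map_inv, hgu, hg₀, hdec']; group
  obtain ⟨-, -, t₁, ht₁, -, v₁, hv₁, hb'⟩ := exists_mul_diag hb
  have hv₁θ : A.theta v₁ = v₁ := by
    have hfx := R.fixed (gu⁻¹ * g₀)
    rw [hg, hb', map_mul, map_mul, hθ] at hfx
    have e : A.theta v₁ * v₁⁻¹ = (d * A.theta t₁)⁻¹ * t₁ := by
      have e1 : A.theta v₁ = (wGL N F (wJ i) * d * A.theta t₁)⁻¹ * (wGL N F (wJ i) * (t₁ * v₁)) := by
        rw [← hfx]; group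
      rw [e1]; group
    exact mul_inv_eq_one.1 (uni_eq_one (mul_mem (A.theta_uni hv₁) (Subgroup.inv_mem _ hv₁))
      (e ▸ mul_mem (Subgroup.inv_mem _ (mul_mem hd (A.theta_diag ht₁))) ht₁))
  obtain ⟨gv, hgv⟩ := R.upper v₁ hv₁ hv₁θ
  exact ⟨gu⁻¹ * g₀ * gv⁻¹, t₁, ht₁, by rw [map_mul, map_inv, hg, hgv, hb']; group⟩

/-- Every permutation commuting with the reversal has a monomial representative. -/
theorem exists_rep {σ : Equiv.Perm (Fin N)} (hσ : RevComm σ) :
    ∃ g : G, ∃ t ∈ diagGL N F, R.φ g = wGL N F σ * t := by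
  suffices ∀ (k : ℕ) (σ : Equiv.Perm (Fin N)), RevComm σ →
      rank (wGL N F σ) ≤ k → ∃ g : G, ∃ t ∈ diagGL N F, R.φ g = wGL N F σ * t from this _ σ hσ le_rfl
  intro k
  induction k using Nat.strong_induction_on with
  | _ k ih =>
    intro σ hσ hk
    by_cases h1 : σ = 1
    · exact ⟨1, 1, one_mem _, by rw [h1, map_one, map_one, mul_one]⟩
    · have hrev : RevComm (Fin.revPerm : Equiv.Perm (Fin N)) := fun a => by simp
      have hne : σ * Fin.revPerm ≠ Fin.revPerm := fun h => h1 (mul_eq_right.1 h)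
      obtain ⟨i, hi⟩ := exists_ascent (hσ.mul hrev) hne
      have hτ : RevComm (σ * wJ i) := hσ.mul (wJ_comm i)
      have hasc : ∀ a b : Fin N, lab i a = lab i b → a < b → (σ * wJ i) a < (σ * wJ i) b := by
        intro a b hab hlt
        have h := hi (wJ i a).rev (wJ i b).rev (lab_rev_eq i (by rw [wJ_lab, wJ_lab, hab]))
          (Fin.rev_lt_rev.2 (wJ_rev_lt i hab hlt))
        simpa using h
      have hlt : rank (wGL N F (σ * wJ i)) < rank (wGL N F σ) := by
        have h := rank_wJ_lt (F := F) i hasc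
        rwa [mul_assoc, wJ_mul_self, mul_one] at h
      obtain ⟨g, t, ht, hg⟩ := ih _ (lt_of_lt_of_le hlt hk) _ hτ le_rfl
      obtain ⟨gi, s, hs, hgi⟩ := R.exists_monomial i
      have hts : (wGL N F (wJ i))⁻¹ * t * wGL N F (wJ i) ∈ diagGL N F := mem_diagGL.2 fun a b hab => by
        rw [wGL_conj_apply]; exact mem_diagGL.1 ht _ _ ((wJ i).injective.ne hab)
      refine ⟨g * gi, (wGL N F (wJ i))⁻¹ * t * wGL N F (wJ i) * s, mul_mem hts hs, ?_⟩
      rw [map_mul, hg, hgi]
      calc wGL N F (σ * wJ i) * t * (wGL N F (wJ i) * s)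
          = wGL N F (σ * wJ i) * wGL N F (wJ i) * ((wGL N F (wJ i))⁻¹ * t * wGL N F (wJ i) * s) := by group
        _ = _ := by rw [← map_mul, mul_assoc σ, wJ_mul_self, mul_one]

/-- The subgroup of unitriangular elements. -/
def U : Subgroup G := (uni N F).comap R.φ

theorem mem_U {g : G} : g ∈ R.U ↔ R.φ g ∈ uni N F := Iff.rfl

/-- Only the base flag is fixed by all unitriangular isometries. -/
theorem eq_base_of_fixed (g : G)
    (h : ∀ u ∈ R.U, (R.φ g)⁻¹ * R.φ u * R.φ g ∈ Cfsg.upperTriangularGL N F) :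
    R.φ g ∈ Cfsg.upperTriangularGL N F := by
  classical
  obtain ⟨b₁, h₁, σ, b₂, h₂, hg⟩ := exists_bruhat (R.φ g)
  suffices σ = 1 by rw [hg, this, map_one, mul_one]; exact mul_mem h₁ h₂
  by_contra hσ
  obtain ⟨k, k', hk, hlt⟩ : ∃ k k' : Fin N, k'.val = k.val + 1 ∧ σ⁻¹ k' < σ⁻¹ k := by
    by_contra hno
    push Not at hno
    refine hσ (inv_eq_one.1 ?_)
    have := eq_revPerm_of_no_ascent (σ := Fin.revPerm * σ⁻¹) fun a b hab => by
      simp only [Equiv.Perm.mul_apply, Fin.revPerm_apply]
      exact Fin.rev_lt_rev.2 (lt_of_le_of_ne (hno a b hab) fun e => by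
        rw [σ⁻¹.injective e] at hab; omega)
    exact mul_eq_left.1 this
  have := k'.isLt
  obtain ⟨r, hrθ, hr1, hr⟩ : ∃ r : GL (Fin N) F, A.theta r = r ∧ r ∈ uni N F ∧
      (r : Matrix (Fin N) (Fin N) F) k k' ≠ 0 := by
    rcases le_total k.val (N - 2 - k.val) with hm | hm
    · obtain ⟨r, hrθ, h2, h1, hA, -⟩ := R.roots ⟨k.val, by omega⟩
      refine ⟨r, hrθ, mem_uni.2 ⟨fun a b hab => by
        by_contra h0; exact absurd (h2 a b h0).2 (not_le.2 hab), h1⟩, ?_⟩
      convert hA using 3 <;> (apply Fin.ext; simp only [pA, pB] <;> omega)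
    · obtain ⟨r, hrθ, h2, h1, -, hB⟩ := R.roots ⟨N - 2 - k.val, by omega⟩
      refine ⟨r, hrθ, mem_uni.2 ⟨fun a b hab => by
        by_contra h0; exact absurd (h2 a b h0).2 (not_le.2 hab), h1⟩, ?_⟩
      convert hB using 3 <;> (apply Fin.ext; simp only [Fin.val_rev, pA, pB]; omega)
  obtain ⟨u, hu⟩ := R.upper r hr1 hrθ
  have h' := h u (R.mem_U.2 (hu ▸ hr1))
  rw [hu] at h'
  have h3 : (wGL N F σ)⁻¹ * (b₁⁻¹ * r * b₁) * wGL N F σ ∈ Cfsg.upperTriangularGL N F := by
    have e : (wGL N F σ)⁻¹ * (b₁⁻¹ * r * b₁) * wGL N F σ = b₂ * ((R.φ g)⁻¹ * r * R.φ g) * b₂⁻¹ := by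
      rw [hg]; group
    rw [e]
    exact mul_mem (mul_mem h₂ h') (Subgroup.inv_mem _ h₂)
  have h4 : ((b₁⁻¹ * r * b₁ : GL (Fin N) F) : Matrix (Fin N) (Fin N) F) k k' = 0 := by
    have := h3 (show σ⁻¹ k' < σ⁻¹ k from hlt)
    rwa [wGL_conj_apply, show σ (σ⁻¹ k) = k from σ.apply_symm_apply k,
      show σ (σ⁻¹ k') = k' from σ.apply_symm_apply k'] at this
  let s : GL (Fin N) F := b₁⁻¹ * r * b₁
  have hsB : s ∈ Cfsg.upperTriangularGL N F :=
    mul_mem (mul_mem (Subgroup.inv_mem _ h₁) (mem_uni.1 hr1).1) h₁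
  have hsd : (s : Matrix (Fin N) (Fin N) F) k' k' = 1 := by
    show ((b₁⁻¹ * r * b₁ : GL (Fin N) F) : Matrix (Fin N) (Fin N) F) k' k' = 1
    rw [diag_mul (mul_mem (Subgroup.inv_mem _ h₁) (mem_uni.1 hr1).1) h₁,
      diag_mul (Subgroup.inv_mem _ h₁) (mem_uni.1 hr1).1, (mem_uni.1 hr1).2, mul_one,
      ← diag_mul (Subgroup.inv_mem _ h₁) h₁, inv_mul_cancel, Units.val_one, one_apply_eq]
  have entry : ∀ {x y : GL (Fin N) F}, x ∈ Cfsg.upperTriangularGL N F → y ∈ Cfsg.upperTriangularGL N F →
      ((x * y : GL (Fin N) F) : Matrix (Fin N) (Fin N) F) k k' =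
        (x : Matrix (Fin N) (Fin N) F) k k * (y : Matrix (Fin N) (Fin N) F) k k' +
          (x : Matrix (Fin N) (Fin N) F) k k' * (y : Matrix (Fin N) (Fin N) F) k' k' := by
    intro x y hx hy
    rw [Units.val_mul, mul_apply, ← sum_subset (subset_univ {k, k'}) (fun l _ hl => ?_),
      sum_pair (fun e => by rw [e] at hk; omega)]
    simp only [mem_insert, mem_singleton, not_or, Fin.ext_iff] at hl
    rcases lt_or_ge l.val k.val with h | h
    · rw [hx (show l < k from Fin.lt_def.2 h), zero_mul]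
    · rw [hy (show k' < l from Fin.lt_def.2 (by omega)), mul_zero]
  have h5 := entry (mem_uni.1 hr1).1 h₁
  have h6 := entry h₁ hsB
  have e : b₁ * s = r * b₁ := by show b₁ * (b₁⁻¹ * r * b₁) = _; group
  rw [e, h5, hsd, show (s : Matrix (Fin N) (Fin N) F) k k' = 0 from h4, (mem_uni.1 hr1).2, one_mul,
    mul_one, mul_zero, zero_add, add_eq_left] at h6
  exact (mul_ne_zero hr (diag_ne_zero h₁ k')) h6

variable [Fintype F]

include R in
theorem exists_steinberg [Finite G] (p : ℕ) [Fact p.Prime] [CharP F p] :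
    ∃ χ : G ⧸ Subgroup.center G → ℂ, Cfsg.IsIrrCharacter (G ⧸ Subgroup.center G) χ ∧
      ∀ P : Sylow p (G ⧸ Subgroup.center G), χ 1 = Nat.card P ∧
        ∀ x : G ⧸ Subgroup.center G, x ∈ P → x ≠ 1 → χ x = 0 := by
  classical
  have hp : p.Prime := Fact.out
  obtain ⟨f, hf, hq⟩ := CfsgLib.Classical.exists_card_eq_prime_pow (F := F) p
  letI actG : MulAction G (Flags N F) := MulAction.compHom _ R.φ
  have hsmul : ∀ (g : G) (a : GL (Fin N) F), g • (a : Flags N F) = ((R.φ g * a : GL (Fin N) F) : Flags N F) :=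
    fun g a => rfl
  let c₀ : Flags N F := ((1 : GL (Fin N) F) : Flags N F)
  let C := MulAction.orbit G c₀
  have hc₀ : ∀ g : G, g • c₀ = c₀ ↔ R.φ g ∈ Cfsg.upperTriangularGL N F := fun g => by
    rw [hsmul, mul_one, QuotientGroup.eq, mul_one, inv_mem_iff]
  -- fixed points of the unitriangular subgroup
  have hUfix : ∀ u ∈ R.U, u • c₀ = c₀ := fun u hu => (hc₀ u).2 (mem_uni.1 hu).1
  have huniq : ∀ x ∈ C, (∀ u ∈ R.U, u • x = x) → x = c₀ := by
    rintro _ ⟨g, rfl⟩ hx
    refine (hc₀ g).2 (R.eq_base_of_fixed g fun u hu => ?_)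
    have h : u • (g • c₀) = g • c₀ := hx u hu
    rw [hsmul, mul_one, hsmul, QuotientGroup.eq] at h
    have := Subgroup.inv_mem _ h
    simpa [mul_assoc] using this
  -- the centre acts trivially
  have hcent : Subgroup.center G ≤ (MulAction.toPermHom G C).ker := by
    intro z hz
    rw [MonoidHom.mem_ker]
    have hzc : z • c₀ = c₀ := huniq _ ⟨z, rfl⟩ fun u hu => by
      rw [← mul_smul, Subgroup.mem_center_iff.1 hz u, mul_smul, hUfix u hu]
    refine Equiv.ext fun x => ?_
    obtain ⟨_, g, rfl⟩ := x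
    refine Subtype.ext ?_
    show z • g • c₀ = g • c₀
    rw [← mul_smul, ← Subgroup.mem_center_iff.1 hz g, mul_smul, hzc]
  letI : MulAction (G ⧸ Subgroup.center G) C :=
    MulAction.compHom _ (QuotientGroup.lift _ (MulAction.toPermHom G C) hcent)
  have hq' : ∀ (g : G) (x : C), (((g : G ⧸ Subgroup.center G) • x : C) : Flags N F) = g • (x : Flags N F) :=
    fun g x => rfl
  haveI : Fintype C := Fintype.ofFinite _
  -- fixed flags
  have hCfix : ∀ (a : GL (Fin N) F), (a : Flags N F) ∈ C → ∃ c ∈ Cfsg.upperTriangularGL N F, A.theta a = a * c := by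
    rintro a ⟨g, hg⟩
    replace hg : ((R.φ g : GL (Fin N) F) : Flags N F) = (a : Flags N F) := by
      rw [← hg]; show _ = ((R.φ g * 1 : GL (Fin N) F) : Flags N F); rw [mul_one]
    rw [QuotientGroup.eq] at hg
    refine ⟨((R.φ g)⁻¹ * a)⁻¹ * A.theta ((R.φ g)⁻¹ * a),
      mul_mem (Subgroup.inv_mem _ hg) (A.inv_mem_borel hg), ?_⟩
    rw [map_mul, map_inv, R.fixed]; group
  let W := {σ : Equiv.Perm (Fin N) // RevComm σ}
  have haptC : ∀ σ : W, ((wGL N F σ.1 : GL (Fin N) F) : Flags N F) ∈ C := fun σ => by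
    obtain ⟨g, t, ht, hg⟩ := R.exists_rep σ.2
    refine ⟨g, ?_⟩
    show g • c₀ = _
    rw [hsmul, mul_one, QuotientGroup.eq, hg, _root_.mul_inv_rev, inv_mul_cancel_right]
    exact Subgroup.inv_mem _ (diagGL_le_borel ht)
  let rk : Flags N F → ℕ := Quotient.lift (fun g => rank g) (fun a b hab => by
    replace hab : a⁻¹ * b ∈ Cfsg.upperTriangularGL N F := QuotientGroup.leftRel_apply.mp hab
    have := rank_borel (one_mem _) hab a
    rw [one_mul, mul_inv_cancel_left] at this
    exact this.symm)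
  let same : Idx N → Flags N F → Flags N F → Prop := fun i x y =>
    Subgroup.quotientMapOfLE (borel_le_lab (F := F) i) x = Subgroup.quotientMapOfLE (borel_le_lab (F := F) i) y
  have hsame : ∀ (i : Idx N) (a b : GL (Fin N) F),
      same i (a : Flags N F) (b : Flags N F) ↔ a⁻¹ * b ∈ blockGL F (lab i) := fun i a b => by
    show ((a : GL (Fin N) F ⧸ blockGL F (lab i)) = (b : GL (Fin N) F ⧸ blockGL F (lab i))) ↔ _
    exact QuotientGroup.eq
  have hrevP : RevComm (Fin.revPerm : Equiv.Perm (Fin N)) := fun a => by simp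
  let w₀ : W := ⟨Fin.revPerm, hrevP⟩
  have hfree : ∀ v : GL (Fin N) F, v ∈ uni N F →
      (wGL N F Fin.revPerm)⁻¹ * v * wGL N F Fin.revPerm ∈ Cfsg.upperTriangularGL N F → v = 1 := by
    intro v hv h
    refine uni_eq_one hv (mem_diagGL.2 fun a b hab => ?_)
    rcases lt_or_gt_of_ne hab with h' | h'
    · have h2 := h (show b.rev < a.rev from Fin.rev_lt_rev.2 h')
      rw [wGL_conj_apply] at h2
      have e : ∀ k : Fin N, Fin.revPerm (Fin.rev k) = k := Fin.rev_rev
      rw [← e a, ← e b]
      exact h2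
    · exact (mem_uni.1 hv).1 h'
  let D : CfsgLib.StModule.Data (G ⧸ Subgroup.center G) C :=
    { I := Idx N
      same := fun i x y => same i x.1 y.1
      same_smul := by
        intro i g x y h
        induction g using QuotientGroup.induction_on with | H g => ?_
        rw [hq', hq']
        revert h
        generalize (x : Flags N F) = a
        generalize (y : Flags N F) = b
        induction a using QuotientGroup.induction_on with | H a => ?_
        induction b using QuotientGroup.induction_on with | H b => ?_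
        intro h
        rw [hsmul, hsmul, hsame]
        rw [hsame] at h
        simpa [mul_assoc] using h
      c := ⟨c₀, MulAction.mem_orbit_self _⟩
      U := R.U.map (QuotientGroup.mk' _)
      fix := by
        rintro _ ⟨u, hu, rfl⟩
        exact Subtype.ext ((hq' u _).trans (hUfix u hu))
      A := W
      fintypeA := Fintype.ofFinite _
      apt := fun σ => ⟨_, haptC σ⟩
      eps := fun σ => (((bSign σ * bSign w₀ : ℤˣ) : ℤ) : ℂ)
      a0 := w₀
      reach := fun f _ _ _ h => by
        obtain ⟨g, hg⟩ := haptC w₀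
        have e := h (g : G ⧸ Subgroup.center G)
        rwa [show (g : G ⧸ Subgroup.center G) • (⟨c₀, MulAction.mem_orbit_self _⟩ : C) = ⟨_, haptC w₀⟩ from
          Subtype.ext ((hq' g _).trans hg)] at e
      eps0 := by simp [Int.units_mul_self]
      panel := by
        intro i x _
        by_cases hx : ∃ σ : W, same i x.1 ((wGL N F σ.1 : GL (Fin N) F) : Flags N F)
        · obtain ⟨σ, hσ⟩ := hx
          let σ' : W := ⟨σ.1 * wJ i, σ.2.mul (wJ_comm i)⟩
          have hne : σ ≠ σ' := fun e => by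
            have h1 : wJ i = 1 := left_eq_mul.1 (congrArg Subtype.val e)
            have h2 := wJ_rev_lt i (lab_pA_pB i) (Fin.lt_def.2 (by simp [pA, pB]))
            rw [h1, Equiv.Perm.one_apply, Equiv.Perm.one_apply, Fin.lt_def] at h2
            simp [pA, pB] at h2
          refine (sum_congr (s₂ := {σ, σ'}) ?_ fun _ _ => rfl).trans ?_
          rotate_left
          · rw [sum_pair hne]
            have hs : bSign σ' = bSign σ * bSign ⟨wJ i, wJ_comm i⟩ := bSign_mul σ ⟨wJ i, wJ_comm i⟩
            rw [hs, bSign_wJ]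
            push_cast
            ring
          · ext τ
            simp only [mem_filter, mem_univ, true_and, mem_insert, mem_singleton]
            have : same i x.1 ((wGL N F τ.1 : GL (Fin N) F) : Flags N F) ↔
                wGL N F (σ.1⁻¹ * τ.1) ∈ blockGL F (lab i) := by
              rw [map_mul, map_inv, ← hsame]
              exact ⟨fun h => hσ.symm.trans h, fun h => hσ.trans h⟩
            rw [this]
            constructor
            · intro h
              rcases eq_one_or_wJ i (σ.2.inv.mul τ.2) (fun k => by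
                  by_contra hlt
                  have := h (not_le.1 hlt)
                  rw [wGL_apply, if_pos rfl] at this
                  exact one_ne_zero this) with h' | h'
              · exact Or.inl (Subtype.ext (inv_mul_eq_one.1 h').symm)
              · exact Or.inr (Subtype.ext (by show τ.1 = σ.1 * wJ i; rw [← h', mul_inv_cancel_left]))
            · rintro (rfl | rfl)
              · rw [inv_mul_cancel, map_one]; exact one_mem _
              · show wGL N F (σ.1⁻¹ * (σ.1 * wJ i)) ∈ _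
                rw [inv_mul_cancel_left]
                intro a b hab
                rw [wGL_apply, if_neg]
                rintro rfl
                exact (ne_of_lt hab) (wJ_lab i b).symm
        · push Not at hx
          rw [filter_false_of_mem fun σ _ => hx σ, sum_empty]
      apt_big := by
        rintro σ _ ⟨u, hu, rfl⟩ h
        have h' : ((wGL N F σ.1 : GL (Fin N) F) : Flags N F) =
            ((R.φ u * wGL N F Fin.revPerm : GL (Fin N) F) : Flags N F) := congrArg Subtype.val h
        rw [QuotientGroup.eq] at h'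
        refine Subtype.ext (wGL_eq_of_mem (mem_uni.1 hu).1 (Subgroup.inv_mem _ h') ?_)
        show _ = _ * wGL N F Fin.revPerm * _
        group
      free := by
        rintro _ ⟨u, hu, rfl⟩ h
        have h' : ((R.φ u * wGL N F Fin.revPerm : GL (Fin N) F) : Flags N F) =
            ((wGL N F Fin.revPerm : GL (Fin N) F) : Flags N F) := congrArg Subtype.val h
        replace h' := h'.symm
        rw [QuotientGroup.eq, ← mul_assoc] at h'
        have : u = 1 := R.inj (by rw [map_one]; exact hfree _ hu h')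
        rw [this, map_one]
      rk := fun x => rk x.1
      up := by
        rintro ⟨x, hxC⟩ hx
        induction x using QuotientGroup.induction_on with | H a => ?_
        obtain ⟨b₁, hb₁, σ, b₂, hb₂, hdec⟩ := exists_bruhat a
        obtain ⟨c, hc, hθa⟩ := hCfix a hxC
        have hσc : RevComm σ := revComm_of_fixed (A := A) hdec hb₁ hb₂ hc hθa
        by_cases hσ : σ = Fin.revPerm
        · exfalso
          subst hσ
          obtain ⟨u, hu, t, ht, rfl, -⟩ := exists_mul_diag hb₁
          have ht' : (wGL N F Fin.revPerm)⁻¹ * t * wGL N F Fin.revPerm ∈ diagGL N F := mem_diagGL.2 fun p q hpq => by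
            rw [wGL_conj_apply]; exact mem_diagGL.1 ht _ _ (Fin.revPerm.injective.ne hpq)
          obtain ⟨b, hb, ha⟩ : ∃ b ∈ Cfsg.upperTriangularGL N F, a = u * wGL N F Fin.revPerm * b :=
            ⟨_, mul_mem (diagGL_le_borel ht') hb₂, by rw [hdec]; group⟩
          obtain ⟨d, hd, hθ⟩ := A.theta_wGL (Fin.revPerm : Equiv.Perm (Fin N))
          rw [revConj_eq.2 hrevP] at hθ
          have huθ : A.theta u = u := by
            refine (inv_mul_eq_one.1 (hfree _ (mul_mem (Subgroup.inv_mem _ hu) (A.theta_uni hu)) ?_)).symm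
            rw [ha, map_mul, map_mul, hθ] at hθa
            have e1 : A.theta u = u * wGL N F Fin.revPerm * b * c * (wGL N F Fin.revPerm * d * A.theta b)⁻¹ := by
              rw [← hθa]; group
            rw [show (wGL N F Fin.revPerm)⁻¹ * (u⁻¹ * A.theta u) * wGL N F Fin.revPerm = b * c * (d * A.theta b)⁻¹ by
              rw [e1]; group]
            exact mul_mem (mul_mem hb hc)
              (Subgroup.inv_mem _ (mul_mem (diagGL_le_borel (mem_diagGL.2 hd)) (A.inv_mem_borel hb)))
          obtain ⟨g, hg⟩ := R.upper u hu huθ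
          refine hx (g : G ⧸ Subgroup.center G) (Subgroup.mem_map_of_mem _ (R.mem_U.2 (hg ▸ hu))) (Subtype.ext ?_)
          show (a : Flags N F) = ((R.φ g * wGL N F Fin.revPerm : GL (Fin N) F) : Flags N F)
          rw [hg, QuotientGroup.eq, ha, show (u * wGL N F Fin.revPerm * b)⁻¹ * (u * wGL N F Fin.revPerm) = b⁻¹ by group]
          exact Subgroup.inv_mem _ hb
        · obtain ⟨i, hi⟩ := exists_ascent hσc hσ
          refine ⟨i, rfl, ?_⟩
          rintro ⟨y, hyC⟩ hy hne
          induction y using QuotientGroup.induction_on with | H h => ?_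
          obtain ⟨c', hc', hθh⟩ := hCfix h hyC
          replace hy : a⁻¹ * h ∈ blockGL F (lab i) := (hsame i a h).1 hy
          obtain ⟨P, hP, hh⟩ : ∃ P ∈ blockGL F (lab i), h = b₁ * wGL N F σ * P :=
            ⟨b₂ * (a⁻¹ * h), mul_mem (borel_le_lab i hb₂) hy, by rw [hdec]; group⟩
          obtain ⟨d₁, hd₁, x, d₂, hd₂, hPd⟩ := exists_bruhat P
          have hxP : wGL N F x ∈ blockGL F (lab i) := by
            rw [show wGL N F x = d₁⁻¹ * P * d₂⁻¹ by rw [hPd]; group]
            exact mul_mem (mul_mem (Subgroup.inv_mem _ (borel_le_lab i hd₁)) hP)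
              (Subgroup.inv_mem _ (borel_le_lab i hd₂))
          have hxle : ∀ k, lab i (x k) ≤ lab i k := fun k => by
            by_contra hlt
            have := hxP (not_le.1 hlt)
            simp at this
          have hxeq : ∀ k, lab i (x k) = lab i k := fun k =>
            (sum_eq_sum_iff_of_le fun k _ => hxle k).1 (Equiv.sum_comp x (lab i)) k (mem_univ k)
          obtain ⟨L, ⟨hLu, hLl⟩, v, hv, rfl, hvx⟩ := exists_split i hd₁
          have hLσ : wGL N F σ * L * (wGL N F σ)⁻¹ ∈ Cfsg.upperTriangularGL N F := by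
            intro p q hpq
            replace hpq : q < p := hpq
            have e := wGL_conj_apply σ (wGL N F σ * L * (wGL N F σ)⁻¹) (σ⁻¹ p) (σ⁻¹ q)
            rw [show σ (σ⁻¹ p) = p from σ.apply_symm_apply p, show σ (σ⁻¹ q) = q from σ.apply_symm_apply q,
              show (wGL N F σ)⁻¹ * (wGL N F σ * L * (wGL N F σ)⁻¹) * wGL N F σ = L by group] at e
            rw [← e]
            by_cases hl : lab i (σ⁻¹ p) = lab i (σ⁻¹ q)
            · rcases lt_trichotomy (σ⁻¹ p) (σ⁻¹ q) with h' | h' | h'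
              · have h'' := hi _ _ hl h'
                rw [show σ (σ⁻¹ p) = p from σ.apply_symm_apply p,
                  show σ (σ⁻¹ q) = q from σ.apply_symm_apply q] at h''
                exact absurd h'' (asymm hpq)
              · exact absurd (σ⁻¹.injective h') (ne_of_gt hpq)
              · exact hLu h'
            · exact mem_lev.1 hLl _ _ hl
          have hcell : h = (b₁ * (wGL N F σ * L * (wGL N F σ)⁻¹)) * wGL N F (σ * x) *
              ((wGL N F x)⁻¹ * v * wGL N F x * d₂) := by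
            rw [hh, hPd, map_mul]; group
          have hB₁ := mul_mem hb₁ hLσ
          have hB₂ := mul_mem (hvx x hxeq) hd₂
          have hxc : RevComm x := by
            have h1 : RevComm (σ * x) := revComm_of_fixed (A := A) hcell hB₁ hB₂ hc' hθh
            have h2 := hσc.inv.mul h1
            rwa [inv_mul_cancel_left] at h2
          rcases eq_one_or_wJ i hxc hxle with rfl | rfl
          · refine absurd (Subtype.ext ?_) hne
            show (h : Flags N F) = (a : Flags N F)
            rw [QuotientGroup.eq, hh, hPd, hdec, map_one, mul_one,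
              show (b₁ * wGL N F σ * (L * v * d₂))⁻¹ * (b₁ * wGL N F σ * b₂) = (L * v * d₂)⁻¹ * b₂ by group]
            exact mul_mem (Subgroup.inv_mem _ (mul_mem (mul_mem hLu hv) hd₂)) hb₂
          · show rank a < rank h
            rw [hdec, rank_borel hb₁ hb₂, hcell, rank_borel hB₁ hB₂]
            exact rank_wJ_lt i hi }
  refine CfsgLib.StModule.exists_character_sylow D p ?_ ?_
  · show IsPGroup p ↥(R.U.map (QuotientGroup.mk' _))
    refine IsPGroup.map (IsPGroup.comap_of_injective (IsPGroup.of_card (n := f * (N * (N - 1) / 2)) ?_) _ R.inj) _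
    rw [card_uni, hq, pow_mul]
  · show ¬ p ∣ (R.U.map (QuotientGroup.mk' (Subgroup.center G))).index
    intro hdvd
    have hdvd' : p ∣ R.U.index :=
      hdvd.trans (Subgroup.index_map_dvd _ (QuotientGroup.mk'_surjective _))
    let S : Subgroup G := (Cfsg.upperTriangularGL N F).comap R.φ
    have hUS : R.U ≤ S := fun u hu => (mem_uni.1 hu).1
    rw [← Subgroup.relIndex_mul_index hUS] at hdvd'
    rcases hp.dvd_mul.1 hdvd' with h | h
    · let δ : S →* (Fin N → Fˣ) := (diagHom N F).comp (R.φ.subgroupComap _)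
      have hker : δ.ker = R.U.subgroupOf S := by
        ext g
        rw [MonoidHom.mem_ker, Subgroup.mem_subgroupOf, R.mem_U, mem_uni, funext_iff]
        exact ⟨fun hg => ⟨g.2, fun k => congrArg Units.val (hg k)⟩, fun hg k => Units.ext (hg.2 k)⟩
      have h2 : p ∣ Nat.card (Fin N → Fˣ) := by
        refine h.trans ?_
        show (R.U.subgroupOf S).index ∣ _
        rw [← hker, Subgroup.index_ker]
        exact Subgroup.card_subgroup_dvd_card _
      rw [Nat.card_fun, Nat.card_units, Nat.card_eq_fintype_card] at h2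
      have h3 := hp.dvd_of_dvd_pow h2
      rw [hq, ← pow_one (p ^ f)] at h3
      exact CfsgLib.Classical.not_dvd_pow_sub_one hp (dvd_pow_self p (by omega))
        (Nat.one_le_pow _ _ hp.pos) one_ne_zero h3
    · have hcard : S.index = Nat.card C := by
        have hS : S = MulAction.stabilizer G c₀ := Subgroup.ext fun g => (hc₀ g).symm
        rw [hS, MulAction.index_stabilizer]
        exact (Nat.card_coe_set_eq C).symm
      rw [hcard] at h
      have hUp : IsPGroup p R.U := IsPGroup.comap_of_injective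
        (IsPGroup.of_card (n := f * (N * (N - 1) / 2)) (by rw [card_uni, hq, pow_mul])) _ R.inj
      haveI : Fintype (MulAction.fixedPoints R.U C) := Fintype.ofFinite _
      have h1 : Nat.card (MulAction.fixedPoints R.U C) = 1 := by
        refine Nat.card_eq_one_iff_unique.2 ⟨⟨fun x y => Subtype.ext (Subtype.ext ?_)⟩,
          ⟨⟨⟨c₀, MulAction.mem_orbit_self _⟩, fun u => Subtype.ext (hUfix u u.2)⟩⟩⟩
        have key : ∀ z : MulAction.fixedPoints R.U C, (z.1 : Flags N F) = c₀ := fun z =>
          huniq _ z.1.2 fun u hu => congrArg Subtype.val (z.2 ⟨u, hu⟩)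
        rw [key x, key y]
      have hmod := hUp.card_modEq_card_fixedPoints C
      rw [h1] at hmod
      have h' : Nat.card C ≡ 0 [MOD p] := Nat.modEq_zero_iff_dvd.2 h
      exact hp.one_lt.ne' (Nat.dvd_one.1 (Nat.modEq_zero_iff_dvd.1 (hmod.symm.trans h')))

end Realisation

end CfsgLib.TwistedFlags
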