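import Cfsg.Agent.Lib.Char.Exceptional.Twisted.Main
import Cfsg.Agent.Lib.Classical.Quad.OmegaIndex

/-!
# The realisation of the orthogonal group of odd dimension by an antidiagonal form
-/

set_option autoImplicit false

namespace CfsgLib.TwistedFlags.OrthOdd

open Matrix Finset CfsgLib.Classical.Quad

variable (m : ℕ) (F : Type*) [Field F]

/-- The positions. -/
def pos : Unit ⊕ (Fin m ⊕ Fin m) ≃ Fin (2 * m + 1) where
  toFun := Sum.elim (fun _ => ⟨m, by omega⟩)
    (Sum.elim (fun i => ⟨i.val, by omega⟩) (fun i => ⟨2 * m - i.val, by omega⟩))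
  invFun k := if h : k.val < m then Sum.inr (Sum.inl ⟨k.val, h⟩)
    else if h' : m < k.val then Sum.inr (Sum.inr ⟨2 * m - k.val, by omega⟩) else Sum.inl ()
  left_inv x := by
    rcases x with ⟨⟩ | i | i
    · show (if h : m < m then _ else if h' : m < m then _ else _) = _
      rw [dif_neg (lt_irrefl m), dif_neg (lt_irrefl m)]
    · show (if h : i.val < m then _ else _) = _
      rw [dif_pos i.isLt]
      rfl
    · show (if h : 2 * m - i.val < m then _ else if h' : m < 2 * m - i.val then _ else _) = _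
      have hi := i.isLt
      rw [dif_neg (by omega), dif_pos (by omega)]
      refine congrArg (fun t => Sum.inr (Sum.inr t)) (Fin.ext ?_)
      show 2 * m - (2 * m - i.val) = i.val
      omega
  right_inv k := by
    by_cases h : k.val < m
    · simp [dif_pos h]
    · by_cases h' : m < k.val
      · simp only [dif_neg h, dif_pos h', Sum.elim_inr]
        exact Fin.ext (by simp only; omega)
      · simp only [dif_neg h, dif_neg h', Sum.elim_inl]
        exact Fin.ext (by simp only; omega)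

/-- The form. -/
def anti : Anti (2 * m + 1) F where
  fa := RingEquiv.refl F
  fa_invol _ := rfl
  d _ := 1
  d_sq _ := mul_one 1
  sgn := 1
  d_rev _ := (mul_one 1).symm

theorem form_transpose : (anti m F).formᵀ = (anti m F).form := by
  ext i j
  show (if i = j.rev then (1 : F) else 0) = if j = i.rev then 1 else 0
  exact if_congr ⟨fun e => by rw [e, Fin.rev_rev], fun e => by rw [e, Fin.rev_rev]⟩ rfl rfl

theorem map_fa (X : Matrix (Fin (2 * m + 1)) (Fin (2 * m + 1)) F) : X.map (anti m F).fa = X := rfl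

theorem eq_of_quadratic {N : ℕ} (h2 : (2 : F) ≠ 0) {X Y : Matrix (Fin N) (Fin N) F} (hX : Xᵀ = X) (hY : Yᵀ = Y)
    (h : ∀ v, v ⬝ᵥ (X *ᵥ v) = v ⬝ᵥ (Y *ᵥ v)) : X = Y := by
  ext i j
  have hi := h (Pi.single i 1)
  have hj := h (Pi.single j 1)
  have hij := h (Pi.single i 1 + Pi.single j 1)
  have eX := congrFun (congrFun hX i) j
  have eY := congrFun (congrFun hY i) j
  rw [transpose_apply] at eX eY
  simp only [mulVec_add, add_dotProduct, dotProduct_add, mulVec_single_one, single_one_dotProduct, col_apply] at hi hj hij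
  refine mul_left_cancel₀ h2 ?_
  linear_combination hij - hi - hj - eX + eY

/-- The scaling. -/
noncomputable def scale (h2 : (2 : F) ≠ 0) : GL (Fin (2 * m + 1)) F :=
  Matrix.nonsingInvUnit (Matrix.diagonal fun k => if m < k.val then 2 else 1)
    (by
      rw [det_diagonal]
      exact (prod_ne_zero_iff.2 fun k _ => by split_ifs <;> simp [h2]).isUnit)

/-- The matrix homomorphism. -/
noncomputable def ψ (h2 : (2 : F) ≠ 0) :
    GL (Unit ⊕ (Fin m ⊕ Fin m)) F →* GL (Fin (2 * m + 1)) F :=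
  (MulAut.conj (scale m F h2)⁻¹).toMonoidHom.comp
    (Units.map (Matrix.reindexAlgEquiv F F (pos m)).toMulEquiv.toMonoidHom)

theorem quad_eq (h2 : (2 : F) ≠ 0) (v : Fin (2 * m + 1) → F) :
    Cfsg.quadFormOdd m F (fun x => ((scale m F h2 : Matrix (Fin (2 * m + 1)) (Fin (2 * m + 1)) F) *ᵥ v) (pos m x)) =
      v ⬝ᵥ ((anti m F).form *ᵥ v) := by
  have hs : ∀ k, ((scale m F h2 : Matrix (Fin (2 * m + 1)) (Fin (2 * m + 1)) F) *ᵥ v) k =
      (if m < k.val then 2 else 1) * v k := fun k => by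
    show (Matrix.diagonal (fun k => if m < (k : Fin (2 * m + 1)).val then (2 : F) else 1) *ᵥ v) k = _
    rw [mulVec_diagonal]
  have hf : ∀ k, ((anti m F).form *ᵥ v) k = v k.rev := fun k => by
    rw [mulVec, dotProduct, sum_eq_single k.rev]
    · simp [Anti.form, anti]
    · intro l _ hl; simp [Anti.form, hl]
    · exact fun h => absurd (mem_univ _) h
  simp only [dotProduct, hf, Cfsg.quadFormOdd, hs]
  rw [← Equiv.sum_comp (pos m) (fun k => v k * v k.rev), Fintype.sum_sum_type, Fintype.sum_sum_type,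
    show (univ : Finset Unit) = {()} from rfl, sum_singleton, ← Finset.sum_add_distrib]
  have e0 : (pos m (Sum.inl ())).rev = pos m (Sum.inl ()) := Fin.ext (by
    rw [Fin.val_rev]; show 2 * m + 1 - (m + 1) = m; omega)
  have e1 : ∀ i, (pos m (Sum.inr (Sum.inl i))).rev = pos m (Sum.inr (Sum.inr i)) := fun i => Fin.ext (by
    rw [Fin.val_rev]; show 2 * m + 1 - (i.val + 1) = 2 * m - i.val; omega)
  have e2 : ∀ i, (pos m (Sum.inr (Sum.inr i))).rev = pos m (Sum.inr (Sum.inl i)) := fun i => by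
    rw [← e1, Fin.rev_rev]
  have c0 : ¬ m < (pos m (Sum.inl ())).val := lt_irrefl m
  have c1 : ∀ i, ¬ m < (pos m (Sum.inr (Sum.inl i))).val := fun i => by
    show ¬ m < i.val
    omega
  have c2 : ∀ i, m < (pos m (Sum.inr (Sum.inr i))).val := fun i => by
    show m < 2 * m - i.val
    omega
  show _ = v (pos m (Sum.inl ())) * v (pos m (Sum.inl ())).rev + _
  rw [e0, if_neg c0, one_mul, sq]
  congr 1
  refine sum_congr rfl fun i _ => ?_
  rw [e1, e2, if_neg (c1 i), if_pos (c2 i)]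
  ring

theorem ψ_mulVec (h2 : (2 : F) ≠ 0) (g : GL (Unit ⊕ (Fin m ⊕ Fin m)) F) (v : Fin (2 * m + 1) → F) :
    (fun x => ((scale m F h2 : Matrix (Fin (2 * m + 1)) (Fin (2 * m + 1)) F) *ᵥ
        ((ψ m F h2 g : Matrix (Fin (2 * m + 1)) (Fin (2 * m + 1)) F) *ᵥ v)) (pos m x)) =
      (g : Matrix (Unit ⊕ (Fin m ⊕ Fin m)) (Unit ⊕ (Fin m ⊕ Fin m)) F) *ᵥ
        fun x => ((scale m F h2 : Matrix (Fin (2 * m + 1)) (Fin (2 * m + 1)) F) *ᵥ v) (pos m x) := by
  set R : GL (Fin (2 * m + 1)) F := Units.map (Matrix.reindexAlgEquiv F F (pos m)).toMulEquiv.toMonoidHom g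
  have e : ψ m F h2 g = (scale m F h2)⁻¹ * R * scale m F h2 := by
    show (scale m F h2)⁻¹ * R * ((scale m F h2)⁻¹)⁻¹ = _
    rw [inv_inv]
  funext x
  rw [e, mulVec_mulVec, ← Units.val_mul, show scale m F h2 * ((scale m F h2)⁻¹ * R * scale m F h2) =
    R * scale m F h2 by group, Units.val_mul, ← mulVec_mulVec]
  show (Matrix.reindex (pos m) (pos m) (g : Matrix (Unit ⊕ (Fin m ⊕ Fin m)) (Unit ⊕ (Fin m ⊕ Fin m)) F) *ᵥ _) (pos m x) = _
  rw [reindex_apply, submatrix_mulVec_equiv]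
  simp [Function.comp_def]

theorem fixed (h2 : (2 : F) ≠ 0) (g : Cfsg.isometryGroup F (Cfsg.quadFormOdd m F)) :
    (anti m F).theta (ψ m F h2 g.1) = ψ m F h2 g.1 := by
  refine (anti m F).theta_eq_self ?_
  rw [map_fa]
  refine eq_of_quadratic F h2 ?_ (form_transpose m F) fun v => ?_
  · rw [transpose_mul, transpose_mul, transpose_transpose, form_transpose, mul_assoc]
  · rw [← mulVec_mulVec, ← mulVec_mulVec, dotProduct_mulVec _ ((ψ m F h2 g.1 : Matrix (Fin (2 * m + 1)) (Fin (2 * m + 1)) F)ᵀ), vecMul_transpose,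
      ← quad_eq m F h2, ← quad_eq m F h2, ψ_mulVec]
    exact g.2 _ 0

theorem mem_isometryGroup (h2 : (2 : F) ≠ 0) {u : GL (Fin (2 * m + 1)) F} (h : (anti m F).theta u = u) :
    ∃ g : Cfsg.isometryGroup F (Cfsg.quadFormOdd m F), ψ m F h2 g.1 = u := by
  obtain ⟨g, rfl⟩ : ∃ g, ψ m F h2 g = u :=
    ((MulAut.conj (scale m F h2)⁻¹).surjective.comp
      (Units.mapEquiv (Matrix.reindexAlgEquiv F F (pos m)).toMulEquiv).surjective) u
  have h1 := (anti m F).isometry_of_fixed h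
  rw [map_fa] at h1
  refine ⟨⟨g, fun w _ => ?_⟩, rfl⟩
  show Cfsg.quadFormOdd m F ((g : Matrix _ _ F) *ᵥ w) = Cfsg.quadFormOdd m F w
  obtain ⟨v, rfl⟩ : ∃ v : Fin (2 * m + 1) → F,
      (fun x => ((scale m F h2 : Matrix (Fin (2 * m + 1)) (Fin (2 * m + 1)) F) *ᵥ v) (pos m x)) = w := by
    refine ⟨((scale m F h2)⁻¹ : GL (Fin (2 * m + 1)) F).1 *ᵥ fun k => w ((pos m).symm k), ?_⟩
    funext x
    rw [mulVec_mulVec, ← Units.val_mul, mul_inv_cancel, Units.val_one, one_mulVec, Equiv.symm_apply_apply]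
  rw [← ψ_mulVec, quad_eq, quad_eq]
  conv_rhs => rw [← h1, ← mulVec_mulVec, ← mulVec_mulVec, dotProduct_mulVec, vecMul_transpose]

theorem mem_Omega [Finite F] (p : ℕ) [Fact p.Prime] [CharP F p] (hp2 : p ≠ 2) (hm : 1 ≤ m)
    (h2 : (2 : F) ≠ 0) (g : Cfsg.isometryGroup F (Cfsg.quadFormOdd m F)) (k : ℕ) (hk : g ^ p ^ k = 1) :
    g ∈ Cfsg.Omega F (Cfsg.quadFormOdd m F) := by
  revert g
  rw [← coe_qOdd]
  intro g hk
  have hn : 2 ≤ Fintype.card (Unit ⊕ (Fin m ⊕ Fin m)) := by simp; omega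
  rw [← ker_invHomM (qOdd_nondeg h2 m) (hex_of_two_ne_zero h2) hn, MonoidHom.mem_ker]
  set z := invHomM (qOdd_nondeg h2 m) (hex_of_two_ne_zero h2) g
  have hz : z ^ p ^ k = 1 := by rw [← map_pow, hk, map_one]
  have hz2 : z ^ 2 = 1 := by
    refine Prod.ext ?_ ?_
    · show z.1 ^ 2 = 1
      exact (by decide : ∀ x : Multiplicative (ZMod 2), x ^ 2 = 1) z.1
    · show z.2 ^ 2 = 1
      exact sqClass_mul_self z.2 ▸ sq z.2
  have hodd : Odd (p ^ k) := ((Fact.out : p.Prime).odd_of_ne_two hp2).pow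
  obtain ⟨j, hj⟩ := hodd
  rwa [hj, pow_succ, pow_mul, hz2, one_pow, one_mul] at hz


theorem mem_range_of_order [Finite F] {p : ℕ} [Fact p.Prime] [CharP F p] {hp2 : p ≠ 2} {hm : 1 ≤ m}
    {h2 : (2 : F) ≠ 0} {u : GL (Fin (2 * m + 1)) F} (h : (anti m F).theta u = u)
    (hu : ∃ k, u ^ p ^ k = 1) :
    u ∈ ((ψ m F h2).comp ((Cfsg.isometryGroup F (Cfsg.quadFormOdd m F)).subtype.comp
      (Cfsg.Omega F (Cfsg.quadFormOdd m F)).subtype)).range := by
  obtain ⟨g, hg⟩ := mem_isometryGroup m F h2 h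
  obtain ⟨k, hk⟩ := hu
  have hgk : g ^ p ^ k = 1 := by
    refine Subtype.ext (((MulAut.conj (scale m F h2)⁻¹).injective.comp
      (Units.mapEquiv (Matrix.reindexAlgEquiv F F (pos m)).toMulEquiv).injective) ?_)
    show ψ m F h2 ((g ^ p ^ k : Cfsg.isometryGroup F (Cfsg.quadFormOdd m F)) : GL _ F) = ψ m F h2 1
    rw [SubmonoidClass.coe_pow, map_pow, hg, hk, map_one]
  exact ⟨⟨g, mem_Omega m F p hp2 hm h2 g k hgk⟩, hg⟩

theorem pow_of_upper [Fintype F] (p : ℕ) [Fact p.Prime] [CharP F p] {N : ℕ} {u : GL (Fin N) F}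
    (hu : u ∈ uni N F) : ∃ k, u ^ p ^ k = 1 := by
  obtain ⟨f, -, hq⟩ := CfsgLib.Classical.exists_card_eq_prime_pow (F := F) p
  refine ⟨f * (N * (N - 1) / 2), ?_⟩
  have h : (⟨u, hu⟩ : uni N F) ^ Nat.card (uni N F) = 1 := pow_card_eq_one'
  rw [card_uni, hq, ← pow_mul] at h
  exact congrArg Subtype.val h

theorem pow_of_lower [Fintype F] (p : ℕ) [Fact p.Prime] [CharP F p] {N : ℕ} {v : GL (Fin N) F}
    (hlow : ∀ a b, a < b → (v : Matrix (Fin N) (Fin N) F) a b = 0)
    (hdiag : ∀ a, (v : Matrix (Fin N) (Fin N) F) a a = 1) : ∃ k, v ^ p ^ k = 1 := by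
  let u : GL (Fin N) F :=
    ⟨(v : Matrix (Fin N) (Fin N) F)ᵀ, ((v⁻¹ : GL (Fin N) F) : Matrix (Fin N) (Fin N) F)ᵀ,
      by rw [← transpose_mul, ← Units.val_mul, inv_mul_cancel, Units.val_one, transpose_one],
      by rw [← transpose_mul, ← Units.val_mul, mul_inv_cancel, Units.val_one, transpose_one]⟩
  obtain ⟨k, hk⟩ := pow_of_upper F p (u := u) (mem_uni.2 ⟨fun a b hab => hlow b a hab, hdiag⟩)
  refine ⟨k, Units.ext ?_⟩
  have h := congrArg (fun g : GL (Fin N) F => (g : Matrix (Fin N) (Fin N) F)ᵀ) hk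
  simp only [Units.val_pow_eq_pow_val, Units.val_one, transpose_one] at h
  rw [show ((u : GL (Fin N) F) : Matrix (Fin N) (Fin N) F) = (v : Matrix (Fin N) (Fin N) F)ᵀ from rfl,
    transpose_pow, transpose_transpose] at h
  rw [Units.val_pow_eq_pow_val, Units.val_one]
  exact h

variable [Fintype F]

/-- The realisation. -/
noncomputable def realisation (p : ℕ) [Fact p.Prime] [CharP F p] (hp2 : p ≠ 2) (hm : 1 ≤ m) (h2 : (2 : F) ≠ 0) :
    Realisation (anti m F) (Cfsg.Omega F (Cfsg.quadFormOdd m F)) where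
  φ := (ψ m F h2).comp ((Cfsg.isometryGroup F (Cfsg.quadFormOdd m F)).subtype.comp (Cfsg.Omega F (Cfsg.quadFormOdd m F)).subtype)
  inj := by
    intro a b e
    refine Subtype.ext (Subtype.ext ?_)
    exact ((MulAut.conj (scale m F h2)⁻¹).injective.comp
      (Units.mapEquiv (Matrix.reindexAlgEquiv F F (pos m)).toMulEquiv).injective) e
  fixed g := fixed m F h2 g.1
  upper u hu h := mem_range_of_order m F (p := p) (hp2 := hp2) (hm := hm) (h2 := h2) h (pow_of_upper F p hu)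
  lower v h hlow hdiag := mem_range_of_order m F (p := p) (hp2 := hp2) (hm := hm) (h2 := h2) h
    (pow_of_lower F p hlow hdiag)
  roots := (anti m F).exists_root
    (fun _ => ⟨fun _ => rfl, ⟨2⁻¹, by show (2⁻¹ : F) + 2⁻¹ = 1; field_simp; norm_num⟩⟩)
    fun k hk => absurd hk (by rw [Fin.val_rev]; omega)

end CfsgLib.TwistedFlags.OrthOdd
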