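import Cfsg.Agent.Lib.Char.Exceptional.Twisted.Theta

/-!
# The subgroups of the general linear group used for the chambers of an isometry group
-/

set_option autoImplicit false

namespace CfsgLib.TwistedFlags

open Matrix Finset CfsgLib.GLParabolic CfsgLib.PSLSteinberg

variable {N : ℕ} {F : Type*} [Field F]

/-- The diagonal invertible matrices. -/
def diagGL (N : ℕ) (F : Type*) [Field F] : Subgroup (GL (Fin N) F) :=
  blockGL F (fun k : Fin N => k.val) ⊓ blockGL F (fun k : Fin N => N - k.val)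

/-- The block diagonal matrices of an orbit. -/
def lev (F : Type*) [Field F] (i : Idx N) : Subgroup (GL (Fin N) F) :=
  blockGL F (lab i) ⊓ blockGL F (fun k : Fin N => N - lab i k)

theorem mem_diagGL {g : GL (Fin N) F} :
    g ∈ diagGL N F ↔ ∀ a b, a ≠ b → (g : Matrix (Fin N) (Fin N) F) a b = 0 := by
  refine ⟨fun h a b hab => ?_, fun h => ⟨fun a b hab => h a b fun e => (ne_of_gt hab) (by rw [e]),
    fun a b hab => h a b fun e => (ne_of_gt hab) (by rw [e])⟩⟩
  rcases lt_or_gt_of_ne hab with h' | h'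
  · exact h.2 (show N - b.val < N - a.val by rw [Fin.lt_def] at h'; omega)
  · exact h.1 (show b.val < a.val from Fin.lt_def.1 h')

theorem lab_le (i : Idx N) (k : Fin N) : lab i k < N := by
  have := i.2
  have := k.isLt
  unfold lab
  split_ifs <;> omega

theorem mem_lev {i : Idx N} {g : GL (Fin N) F} :
    g ∈ lev F i ↔ ∀ a b, lab i a ≠ lab i b → (g : Matrix (Fin N) (Fin N) F) a b = 0 := by
  refine ⟨fun h a b hab => ?_, fun h => ⟨fun a b hab => h a b fun e => (ne_of_gt hab) e,
    fun a b hab => h a b fun e => (ne_of_gt hab) (congrArg (N - ·) e)⟩⟩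
  rcases lt_or_gt_of_ne hab with h' | h'
  · exact h.2 (show N - lab i b < N - lab i a by have := lab_le i b; omega)
  · exact h.1 h'

theorem diagGL_le_lev (i : Idx N) : diagGL N F ≤ lev F i := fun _ hg =>
  mem_lev.2 fun a b hab => mem_diagGL.1 hg a b fun e => hab (by rw [e])

theorem diagGL_le_borel : diagGL N F ≤ Cfsg.upperTriangularGL N F := fun _ hg a b hab =>
  mem_diagGL.1 hg a b (ne_of_gt (show b < a from hab))

theorem lev_le_block (i : Idx N) : lev F i ≤ blockGL F (lab i) := inf_le_left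

theorem borel_le_lab (i : Idx N) : Cfsg.upperTriangularGL N F ≤ blockGL F (lab i) :=
  borel_le_blockGL (lab_mono i)

theorem diag_mul {a b : GL (Fin N) F} (ha : a ∈ Cfsg.upperTriangularGL N F) (hb : b ∈ Cfsg.upperTriangularGL N F)
    (k : Fin N) : ((a * b : GL (Fin N) F) : Matrix (Fin N) (Fin N) F) k k =
      (a : Matrix (Fin N) (Fin N) F) k k * (b : Matrix (Fin N) (Fin N) F) k k := by
  rw [Units.val_mul, mul_apply, sum_eq_single k]
  · intro l _ hl
    rcases lt_or_gt_of_ne hl with h | h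
    · rw [ha h, zero_mul]
    · rw [hb h, mul_zero]
  · exact fun h => absurd (mem_univ _) h

theorem diag_ne_zero {a : GL (Fin N) F} (ha : a ∈ Cfsg.upperTriangularGL N F) (k : Fin N) :
    (a : Matrix (Fin N) (Fin N) F) k k ≠ 0 := fun h => by
  have h1 := diag_mul ha (Subgroup.inv_mem _ ha) k
  rw [mul_inv_cancel, Units.val_one, one_apply_eq, h, zero_mul] at h1
  exact one_ne_zero h1

/-- The diagonal of an upper triangular matrix. -/
noncomputable def diagHom (N : ℕ) (F : Type*) [Field F] : ↥(Cfsg.upperTriangularGL N F) →* (Fin N → Fˣ) where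
  toFun b k := Units.mk0 ((b.1 : Matrix (Fin N) (Fin N) F) k k) (diag_ne_zero b.2 k)
  map_one' := funext fun k => Units.ext (by simp)
  map_mul' a b := funext fun k => Units.ext (diag_mul a.2 b.2 k)

/-- The upper unitriangular invertible matrices. -/
def uni (N : ℕ) (F : Type*) [Field F] : Subgroup (GL (Fin N) F) :=
  (uniSL N F).map SpecialLinearGroup.toGL

theorem mem_uni {g : GL (Fin N) F} :
    g ∈ uni N F ↔ g ∈ Cfsg.upperTriangularGL N F ∧ ∀ k, (g : Matrix (Fin N) (Fin N) F) k k = 1 := by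
  constructor
  · rintro ⟨s, hs, rfl⟩
    exact ⟨hs.1, hs.2⟩
  · rintro ⟨h1, h2⟩
    refine ⟨⟨(g : Matrix (Fin N) (Fin N) F), ?_⟩, ⟨h1, h2⟩, Units.ext rfl⟩
    rw [Matrix.det_of_isUpperTriangular h1]
    exact prod_eq_one fun k _ => h2 k

theorem card_uni [Fintype F] : Nat.card (uni N F) = Fintype.card F ^ (N * (N - 1) / 2) := by
  rw [← card_uniSL (n := N) (F := F)]
  exact (Nat.card_congr ((uniSL N F).equivMapOfInjective _ Matrix.SpecialLinearGroup.toGL_injective).toEquiv).symm

theorem uni_eq_one {g : GL (Fin N) F} (hg : g ∈ uni N F) (hd : g ∈ diagGL N F) : g = 1 := Units.ext (by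
  ext a b
  by_cases h : a = b
  · subst h; rw [(mem_uni.1 hg).2 a, Units.val_one, one_apply_eq]
  · rw [mem_diagGL.1 hd a b h, Units.val_one, one_apply_ne h])

theorem exists_mul_diag {b : GL (Fin N) F} (hb : b ∈ Cfsg.upperTriangularGL N F) :
    ∃ u ∈ uni N F, ∃ t ∈ diagGL N F, b = u * t ∧ ∃ v ∈ uni N F, b = t * v := by
  classical
  let t : GL (Fin N) F := Matrix.nonsingInvUnit (Matrix.diagonal fun k => (b : Matrix (Fin N) (Fin N) F) k k)
    (by rw [det_diagonal]; exact (prod_ne_zero_iff.2 fun k _ => diag_ne_zero hb k).isUnit)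
  have ht : t ∈ diagGL N F := mem_diagGL.2 fun x y hxy => by
    show Matrix.diagonal _ x y = 0
    rw [diagonal_apply_ne _ hxy]
  have htB := diagGL_le_borel ht
  have htd : ∀ k, (t : Matrix (Fin N) (Fin N) F) k k = (b : Matrix (Fin N) (Fin N) F) k k := fun k => by
    show Matrix.diagonal _ k k = _
    rw [diagonal_apply_eq]
  have hd : ∀ k, ((t⁻¹ : GL (Fin N) F) : Matrix (Fin N) (Fin N) F) k k * (b : Matrix (Fin N) (Fin N) F) k k = 1 := by
    intro k
    have h := diag_mul (Subgroup.inv_mem _ htB) htB k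
    rw [inv_mul_cancel, Units.val_one, one_apply_eq, htd] at h
    exact h.symm
  refine ⟨b * t⁻¹, mem_uni.2 ⟨mul_mem hb (Subgroup.inv_mem _ htB), fun k => ?_⟩, t, ht, by group,
    t⁻¹ * b, mem_uni.2 ⟨mul_mem (Subgroup.inv_mem _ htB) hb, fun k => ?_⟩, by group⟩
  · rw [diag_mul hb (Subgroup.inv_mem _ htB), mul_comm, hd]
  · rw [diag_mul (Subgroup.inv_mem _ htB) hb, hd]

theorem wGL_conj_apply (σ : Equiv.Perm (Fin N)) (g : GL (Fin N) F) (a b : Fin N) :
    (((wGL N F σ)⁻¹ * g * wGL N F σ : GL (Fin N) F) : Matrix (Fin N) (Fin N) F) a b =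
      (g : Matrix (Fin N) (Fin N) F) (σ a) (σ b) := by
  rw [← map_inv, Units.val_mul, mul_apply, sum_eq_single (σ b), wGL_apply, if_pos rfl, mul_one,
    Units.val_mul, mul_apply, sum_eq_single (σ a), wGL_apply, if_pos (by simp), one_mul]
  · intro k _ hk
    rw [wGL_apply, if_neg (fun e => hk (by rw [e]; simp)), zero_mul]
  · exact fun h => absurd (mem_univ _) h
  · intro k _ hk; rw [wGL_apply, if_neg hk, mul_zero]
  · exact fun h => absurd (mem_univ _) h

/-- Splitting an upper triangular matrix at an orbit. -/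
theorem exists_split (i : Idx N) {b : GL (Fin N) F} (hb : b ∈ Cfsg.upperTriangularGL N F) :
    ∃ L ∈ Cfsg.upperTriangularGL N F ⊓ lev F i, ∃ v ∈ Cfsg.upperTriangularGL N F, b = L * v ∧
      ∀ x : Equiv.Perm (Fin N), (∀ k, lab i (x k) = lab i k) →
        (wGL N F x)⁻¹ * v * wGL N F x ∈ Cfsg.upperTriangularGL N F := by
  classical
  let M : Matrix (Fin N) (Fin N) F := Matrix.of fun p q =>
    if lab i p = lab i q then (b : Matrix (Fin N) (Fin N) F) p q else 0
  have hMu : M.BlockTriangular id := fun p q hpq => by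
    show (if _ then _ else _) = _
    rw [hb hpq, ite_self]
  have hM : IsUnit M.det := by
    rw [Matrix.det_of_isUpperTriangular hMu]
    exact (prod_ne_zero_iff.2 fun k _ => by
      show (if _ then _ else _) ≠ _
      rw [if_pos rfl]; exact diag_ne_zero hb k).isUnit
  let L : GL (Fin N) F := Matrix.nonsingInvUnit M hM
  have hLu : L ∈ Cfsg.upperTriangularGL N F := hMu
  have hLl : L ∈ lev F i := mem_lev.2 fun p q hpq => if_neg hpq
  have hvu : L⁻¹ * b ∈ Cfsg.upperTriangularGL N F := mul_mem (Subgroup.inv_mem _ hLu) hb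
  refine ⟨L, ⟨hLu, hLl⟩, L⁻¹ * b, hvu, (mul_inv_cancel_left _ _).symm, fun x hx p q hpq => ?_⟩
  rw [wGL_conj_apply]
  by_cases hlab : lab i (x p) = lab i (x q)
  · rw [Units.val_mul, mul_apply]
    calc ∑ r, ((L⁻¹ : GL (Fin N) F) : Matrix (Fin N) (Fin N) F) (x p) r * (b : Matrix (Fin N) (Fin N) F) r (x q)
        = ∑ r, ((L⁻¹ : GL (Fin N) F) : Matrix (Fin N) (Fin N) F) (x p) r * (L : Matrix (Fin N) (Fin N) F) r (x q) := by
          refine sum_congr rfl fun r _ => ?_
          by_cases hr : lab i (x p) = lab i r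
          · congr 1
            show _ = if _ then _ else _
            rw [if_pos (hr.symm.trans hlab)]
          · rw [mem_lev.1 (Subgroup.inv_mem _ hLl) _ _ hr, zero_mul, zero_mul]
      _ = ((L⁻¹ * L : GL (Fin N) F) : Matrix (Fin N) (Fin N) F) (x p) (x q) := by rw [Units.val_mul, mul_apply]
      _ = 0 := by
          rw [inv_mul_cancel, Units.val_one, one_apply_ne (fun e => (ne_of_gt hpq : p ≠ q) (x.injective e))]
  · refine borel_le_lab i hvu ?_
    rw [hx, hx] at hlab ⊢
    exact lt_of_le_of_ne (lab_mono i (le_of_lt hpq)) fun e => hlab e.symm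

namespace Anti

variable (A : Anti N F)

theorem theta_uni {g : GL (Fin N) F} (hg : g ∈ uni N F) : A.theta g ∈ uni N F :=
  mem_uni.2 ⟨A.inv_mem_borel (mem_uni.1 hg).1, A.theta_diag_eq_one (mem_uni.1 hg).1 (mem_uni.1 hg).2⟩

theorem theta_diag {g : GL (Fin N) F} (hg : g ∈ diagGL N F) : A.theta g ∈ diagGL N F :=
  mem_diagGL.2 fun a b hab => by
    rw [A.theta_apply, mem_diagGL.1 (Subgroup.inv_mem _ hg) _ _ (fun e => hab (Fin.rev_injective e).symm),
      zero_mul, map_zero]

theorem theta_lev {i : Idx N} {g : GL (Fin N) F} (hg : g ∈ lev F i) : A.theta g ∈ lev F i :=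
  mem_lev.2 fun a b hab => by
    have h : lab i b.rev ≠ lab i a.rev := fun e => hab (by
      have := lab_rev_eq i e
      rwa [Fin.rev_rev, Fin.rev_rev, eq_comm] at this)
    rw [A.theta_apply, mem_lev.1 (Subgroup.inv_mem _ hg) _ _ h, zero_mul, map_zero]

end Anti

end CfsgLib.TwistedFlags
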