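import Cfsg.Agent.Lib.Char.Exceptional.Twisted.Main
import Mathlib.LinearAlgebra.SymplecticGroup

/-!
# The realisation of the symplectic group by an antidiagonal form
-/

set_option autoImplicit false

namespace CfsgLib.TwistedFlags.Symplectic

open Matrix Finset

variable (m : ℕ) (F : Type*) [Field F]

/-- The positions: the second half in reversed order. -/
def pos : Fin m ⊕ Fin m ≃ Fin (2 * m) where
  toFun := Sum.elim (fun i => ⟨i.val, by omega⟩) (fun i => ⟨2 * m - 1 - i.val, by omega⟩)
  invFun k := if h : k.val < m then Sum.inl ⟨k.val, h⟩ else Sum.inr ⟨2 * m - 1 - k.val, by omega⟩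
  left_inv x := by
    rcases x with i | i
    · show (if h : i.val < m then _ else _) = _
      rw [dif_pos i.isLt]
      rfl
    · show (if h : 2 * m - 1 - i.val < m then _ else _) = _
      have hi := i.isLt
      rw [dif_neg (show ¬ 2 * m - 1 - i.val < m by omega)]
      exact congrArg Sum.inr (Fin.ext (by simp only [Sum.elim_inr]; omega))
  right_inv k := by
    by_cases h : k.val < m
    · simp [dif_pos h]
    · simp only [dif_neg h, Sum.elim_inr]; exact Fin.ext (by simp only; omega)

/-- The form. -/
def anti : Anti (2 * m) F where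
  fa := RingEquiv.refl F
  fa_invol _ := rfl
  d k := if k.val < m then -1 else 1
  d_sq k := by split_ifs <;> ring
  sgn := -1
  d_rev k := by
    rw [Fin.val_rev]
    have := k.isLt
    split_ifs <;> first | (exfalso; omega) | ring

/-- The matrix homomorphism. -/
def φ : Matrix.symplecticGroup (Fin m) F →* GL (Fin (2 * m)) F :=
  (((Matrix.reindexAlgEquiv F F (pos m)).toMulEquiv.toMonoidHom).comp
    (Matrix.symplecticGroup (Fin m) F).subtype).toHomUnits

theorem φ_val (g : Matrix.symplecticGroup (Fin m) F) :
    (φ m F g : Matrix (Fin (2 * m)) (Fin (2 * m)) F) =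
      Matrix.reindex (pos m) (pos m) (g : Matrix (Fin m ⊕ Fin m) (Fin m ⊕ Fin m) F) := rfl

theorem form_eq : (anti m F).form = Matrix.reindex (pos m) (pos m) (Matrix.J (Fin m) F) := by
  ext a b
  obtain ⟨x, rfl⟩ := (pos m).surjective a
  obtain ⟨y, rfl⟩ := (pos m).surjective b
  rw [reindex_apply, submatrix_apply, Equiv.symm_apply_apply, Equiv.symm_apply_apply]
  show (if pos m y = (pos m x).rev then (if (pos m x).val < m then (-1 : F) else 1) else 0) = _
  have e1 : ∀ i : Fin m, (pos m (Sum.inl i)).val = i.val := fun _ => rfl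
  have e2 : ∀ i : Fin m, (pos m (Sum.inr i)).val = 2 * m - 1 - i.val := fun _ => rfl
  rcases x with i | i <;> rcases y with j | j <;>
    simp only [Matrix.J, Matrix.fromBlocks_apply₁₁, Matrix.fromBlocks_apply₁₂, Matrix.fromBlocks_apply₂₁,
      Matrix.fromBlocks_apply₂₂, Matrix.neg_apply, Matrix.zero_apply, Matrix.one_apply, Fin.ext_iff, Fin.val_rev, e1, e2]
  · rw [if_neg (by omega)]
  · by_cases h : i.val = j.val
    · rw [if_pos (by omega), if_pos (by omega), if_pos h]
    · rw [if_neg (by omega), if_neg h, neg_zero]
  · by_cases h : i.val = j.val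
    · rw [if_pos (by omega), if_neg (by omega), if_pos h]
    · rw [if_neg (by omega), if_neg h]
  · rw [if_neg (by omega)]

theorem fixed (g : Matrix.symplecticGroup (Fin m) F) : (anti m F).theta (φ m F g) = φ m F g := by
  refine (anti m F).theta_eq_self ?_
  rw [show (φ m F g : Matrix (Fin (2 * m)) (Fin (2 * m)) F).map (anti m F).fa = φ m F g by ext; rfl, φ_val,
    form_eq, transpose_reindex]
  simp only [reindex_apply, submatrix_mul_equiv]
  rw [SymplecticGroup.mem_iff'.1 g.2]

theorem mem_range {u : GL (Fin (2 * m)) F} (h : (anti m F).theta u = u) : u ∈ (φ m F).range := by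
  have h1 := (anti m F).isometry_of_fixed h
  rw [show (u : Matrix (Fin (2 * m)) (Fin (2 * m)) F).map (anti m F).fa = u by ext; rfl, form_eq] at h1
  refine ⟨⟨Matrix.reindex (pos m).symm (pos m).symm (u : Matrix (Fin (2 * m)) (Fin (2 * m)) F),
    SymplecticGroup.mem_iff'.2 ?_⟩, Units.ext ?_⟩
  · have h2 := congrArg (Matrix.reindex (pos m).symm (pos m).symm) h1
    simp only [reindex_apply, submatrix_submatrix, Equiv.symm_symm, Equiv.symm_comp_self, submatrix_id_id] at h2
    rw [← submatrix_mul_equiv _ _ _ (pos m), ← submatrix_mul_equiv _ _ _ (pos m), submatrix_submatrix,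
      Equiv.symm_comp_self, submatrix_id_id] at h2
    rw [transpose_reindex]
    simp only [reindex_apply, Equiv.symm_symm]
    exact h2
  · rw [φ_val]
    simp [reindex_apply, submatrix_submatrix]

/-- The realisation. -/
noncomputable def realisation : Realisation (anti m F) (Matrix.symplecticGroup (Fin m) F) where
  φ := φ m F
  inj g h e := Subtype.ext ((Matrix.reindex (pos m) (pos m)).injective (congrArg Units.val e))
  fixed := fixed m F
  upper _ _ h := mem_range m F h
  lower _ h _ _ := mem_range m F h
  roots := (anti m F).exists_root (fun h => absurd h (by omega)) fun k hk => ⟨1, one_ne_zero, by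
    rw [Fin.val_rev] at hk
    show -1 * ((if k.val < m then (-1 : F) else 1) / (if k.rev.val < m then (-1 : F) else 1)) = 1
    rw [if_pos (by omega), if_neg (by rw [Fin.val_rev]; omega)]
    norm_num⟩

end CfsgLib.TwistedFlags.Symplectic
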