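import Cfsg.Agent.Lib.Char.Exceptional.PSLChambers
import Cfsg.Agent.Lib.Char.Exceptional.Twisted.Combinatorics

/-!
# The automorphism of the general linear group of an antidiagonal form
-/

set_option autoImplicit false

namespace CfsgLib.TwistedFlags

open Matrix Finset CfsgLib.GLParabolic CfsgLib.PSLSteinberg

variable {N : ℕ} {F : Type*} [Field F]

/-- An antidiagonal form: a field involution and the entries, equal to `1` or `-1`. -/
structure Anti (N : ℕ) (F : Type*) [Field F] where
  fa : F ≃+* F
  fa_invol : ∀ x, fa (fa x) = x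
  d : Fin N → F
  d_sq : ∀ k, d k * d k = 1
  sgn : F
  d_rev : ∀ k : Fin N, d k.rev = sgn * d k

namespace Anti

variable (A : Anti N F)

theorem d_ne (k : Fin N) : A.d k ≠ 0 := fun h => by
  have h' := A.d_sq k
  rw [h, mul_zero] at h'
  exact zero_ne_one h'

/-- The entries of the image. -/
def thetaMat (g : GL (Fin N) F) : Matrix (Fin N) (Fin N) F :=
  Matrix.of fun i j => A.fa (((g⁻¹ : GL (Fin N) F) : Matrix (Fin N) (Fin N) F) j.rev i.rev * (A.d j.rev / A.d i.rev))

/-- The automorphism whose fixed points are the isometries. -/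
def theta : GL (Fin N) F →* GL (Fin N) F :=
  ({ toFun := A.thetaMat
     map_one' := by
      ext i j
      show A.fa (((1⁻¹ : GL (Fin N) F) : Matrix (Fin N) (Fin N) F) j.rev i.rev * _) = _
      rw [inv_one, Units.val_one]
      by_cases hij : i = j
      · subst hij; simp [div_self (A.d_ne i.rev)]
      · rw [one_apply_ne hij, one_apply_ne (fun e => hij (Fin.rev_injective e).symm), zero_mul, map_zero]
     map_mul' := fun g h => by
        ext i j
        show A.fa (((((g * h)⁻¹ : GL (Fin N) F)) : Matrix (Fin N) (Fin N) F) j.rev i.rev * _) =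
          ∑ k : Fin N, A.fa (_ * (A.d k.rev / A.d i.rev)) * A.fa (_ * (A.d j.rev / A.d k.rev))
        rw [_root_.mul_inv_rev, Units.val_mul, mul_apply, sum_mul, map_sum,
          ← Equiv.sum_comp (Fin.revPerm (n := N))
            (fun l => A.fa ((((h⁻¹ : GL (Fin N) F)) : Matrix (Fin N) (Fin N) F) j.rev l *
              (((g⁻¹ : GL (Fin N) F)) : Matrix (Fin N) (Fin N) F) l i.rev * (A.d j.rev / A.d i.rev)))]
        refine sum_congr rfl fun k _ => ?_
        rw [← map_mul]
        congr 1
        simp only [Fin.revPerm_apply]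
        have := A.d_ne k.rev
        have := A.d_ne i.rev
        field_simp } : GL (Fin N) F →* Matrix (Fin N) (Fin N) F).toHomUnits

theorem theta_apply (g : GL (Fin N) F) (i j : Fin N) :
    (A.theta g : Matrix (Fin N) (Fin N) F) i j =
      A.fa (((g⁻¹ : GL (Fin N) F) : Matrix (Fin N) (Fin N) F) j.rev i.rev * (A.d j.rev / A.d i.rev)) := rfl

theorem inv_mem_borel {g : GL (Fin N) F} (hg : g ∈ Cfsg.upperTriangularGL N F) :
    A.theta g ∈ Cfsg.upperTriangularGL N F := fun i j hij => by
  have h : ((g⁻¹ : GL (Fin N) F) : Matrix (Fin N) (Fin N) F) j.rev i.rev = 0 :=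
    Subgroup.inv_mem _ hg (show i.rev < j.rev from Fin.rev_lt_rev.2 hij)
  rw [A.theta_apply, h, zero_mul, map_zero]

/-- The form. -/
def form : Matrix (Fin N) (Fin N) F := Matrix.of fun i j => if j = i.rev then A.d i else 0

theorem form_mul (M : Matrix (Fin N) (Fin N) F) (i j : Fin N) : (A.form * M) i j = A.d i * M i.rev j := by
  rw [mul_apply, sum_eq_single i.rev]
  · simp [form]
  · intro k _ hk; simp [form, hk]
  · exact fun h => absurd (mem_univ _) h

theorem mul_form (M : Matrix (Fin N) (Fin N) F) (i j : Fin N) : (M * A.form) i j = M i j.rev * A.d j.rev := by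
  rw [mul_apply, sum_eq_single j.rev]
  · simp [form]
  · intro k _ hk
    have : j ≠ k.rev := fun e => hk (by rw [e, Fin.rev_rev])
    simp [form, this]
  · exact fun h => absurd (mem_univ _) h

/-- An isometry of the form is fixed. -/
theorem theta_eq_self {g : GL (Fin N) F}
    (h : (g : Matrix (Fin N) (Fin N) F)ᵀ * A.form * (g : Matrix (Fin N) (Fin N) F).map A.fa = A.form) :
    A.theta g = g := by
  have h1 : A.form * (g : Matrix (Fin N) (Fin N) F).map A.fa =
      ((g⁻¹ : GL (Fin N) F) : Matrix (Fin N) (Fin N) F)ᵀ * A.form := by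
    calc _ = ((g⁻¹ : GL (Fin N) F) : Matrix (Fin N) (Fin N) F)ᵀ * (g : Matrix (Fin N) (Fin N) F)ᵀ *
          (A.form * (g : Matrix (Fin N) (Fin N) F).map A.fa) := by
            rw [← transpose_mul, ← Units.val_mul, mul_inv_cancel, Units.val_one, transpose_one, one_mul]
      _ = _ := by rw [Matrix.mul_assoc, ← Matrix.mul_assoc (g : Matrix (Fin N) (Fin N) F)ᵀ, h]
  refine Units.ext ?_
  ext i j
  have h2 : A.d i.rev * A.fa ((g : Matrix (Fin N) (Fin N) F) i j) =
      ((g⁻¹ : GL (Fin N) F) : Matrix (Fin N) (Fin N) F) j.rev i.rev * A.d j.rev := by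
    have h' := congrFun (congrFun h1 i.rev) j
    rwa [A.form_mul, A.mul_form, Fin.rev_rev, Matrix.map_apply, transpose_apply] at h'
  rw [A.theta_apply, ← mul_div_assoc, ← h2, mul_div_cancel_left₀ _ (A.d_ne _), A.fa_invol]

/-- A fixed element is an isometry of the form. -/
theorem isometry_of_fixed {g : GL (Fin N) F} (h : A.theta g = g) :
    (g : Matrix (Fin N) (Fin N) F)ᵀ * A.form * (g : Matrix (Fin N) (Fin N) F).map A.fa = A.form := by
  have h1 : A.form * (g : Matrix (Fin N) (Fin N) F).map A.fa =
      ((g⁻¹ : GL (Fin N) F) : Matrix (Fin N) (Fin N) F)ᵀ * A.form := by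
    ext i j
    rw [A.form_mul, A.mul_form, Matrix.map_apply, transpose_apply]
    conv_lhs => rw [← h]
    rw [A.theta_apply, A.fa_invol, Fin.rev_rev]
    have := A.d_ne i
    field_simp
  rw [Matrix.mul_assoc, h1, ← Matrix.mul_assoc, ← transpose_mul, ← Units.val_mul, inv_mul_cancel,
    Units.val_one, transpose_one, one_mul]

theorem map_one_entry {p : Prop} [Decidable p] : A.fa (if p then (1 : F) else 0) = if p then 1 else 0 := by
  split_ifs <;> simp

/-- The image of a permutation matrix is the mirrored one times a diagonal matrix. -/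
theorem theta_wGL (σ : Equiv.Perm (Fin N)) : ∃ b : GL (Fin N) F,
    (∀ i j, i ≠ j → (b : Matrix (Fin N) (Fin N) F) i j = 0) ∧
    A.theta (wGL N F σ) = wGL N F (Fin.revPerm * σ * Fin.revPerm) * b := by
  refine ⟨(wGL N F (Fin.revPerm * σ * Fin.revPerm))⁻¹ * A.theta (wGL N F σ), ?_, (mul_inv_cancel_left _ _).symm⟩
  intro i j hij
  rw [← map_inv, Units.val_mul, mul_apply]
  refine sum_eq_zero fun k _ => ?_
  rw [wGL_apply, A.theta_apply, ← map_inv, wGL_apply]
  by_cases h1 : i = ((Fin.revPerm * σ * Fin.revPerm : Equiv.Perm (Fin N))⁻¹) k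
  · rw [if_pos h1, one_mul, if_neg, zero_mul, map_zero]
    intro h2
    refine hij ?_
    rw [h1]
    simp only [Equiv.Perm.inv_def] at h2 ⊢
    have e : σ j.rev = k.rev := by rw [h2, Equiv.apply_symm_apply]
    refine (Equiv.symm_apply_eq _).2 ?_
    simp [e]
  · rw [if_neg h1, zero_mul]

theorem theta_diag_eq_one {g : GL (Fin N) F} (hg : g ∈ Cfsg.upperTriangularGL N F)
    (h1 : ∀ i, (g : Matrix (Fin N) (Fin N) F) i i = 1) (i : Fin N) :
    (A.theta g : Matrix (Fin N) (Fin N) F) i i = 1 := by
  have hi : ∀ k, ((g⁻¹ : GL (Fin N) F) : Matrix (Fin N) (Fin N) F) k k = 1 := fun k => by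
    have h := congrArg (fun M : GL (Fin N) F => (M : Matrix (Fin N) (Fin N) F) k k) (mul_inv_cancel g)
    simp only [Units.val_mul, Units.val_one, one_apply_eq, mul_apply] at h
    rw [sum_eq_single k, h1, one_mul] at h
    · exact h
    · intro l _ hl
      rcases lt_or_gt_of_ne hl with h' | h'
      · rw [hg h', zero_mul]
      · rw [(Subgroup.inv_mem _ hg) h', mul_zero]
    · exact fun h' => absurd (mem_univ _) h'
  rw [A.theta_apply, hi, one_mul, div_self (A.d_ne _), map_one]

theorem theta_transpose {g g' : GL (Fin N) F}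
    (h : (g' : Matrix (Fin N) (Fin N) F) = (g : Matrix (Fin N) (Fin N) F)ᵀ) (hg : A.theta g = g) :
    A.theta g' = g' := by
  have hinv : ((g'⁻¹ : GL (Fin N) F) : Matrix (Fin N) (Fin N) F) =
      ((g⁻¹ : GL (Fin N) F) : Matrix (Fin N) (Fin N) F)ᵀ := by
    refine Units.inv_eq_of_mul_eq_one_left (u := g') ?_
    rw [h, ← transpose_mul, ← Units.val_mul, mul_inv_cancel, Units.val_one, transpose_one]
  refine Units.ext ?_
  ext i j
  rw [h, transpose_apply]
  conv_rhs => rw [← hg]
  rw [A.theta_apply, A.theta_apply, hinv, transpose_apply]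
  congr 2
  rw [div_eq_div_iff (A.d_ne _) (A.d_ne _), A.d_sq, A.d_sq]

/-- Elementary transvections as invertible matrices. -/
def elem {a b : Fin N} (hab : a ≠ b) (t : F) : GL (Fin N) F :=
  ⟨Matrix.transvection a b t, Matrix.transvection a b (-t),
    by rw [Matrix.transvection_mul_transvection_same a b hab, add_neg_cancel, Matrix.transvection_zero],
    by rw [Matrix.transvection_mul_transvection_same a b hab, neg_add_cancel, Matrix.transvection_zero]⟩

theorem elem_val {a b : Fin N} (hab : a ≠ b) (t : F) :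
    (elem hab t : Matrix (Fin N) (Fin N) F) = 1 + Matrix.single a b t := rfl

theorem theta_elem {a b : Fin N} (hab : a ≠ b) (t : F) :
    A.theta (elem hab t) = elem (a := b.rev) (b := a.rev) (fun e => hab (Fin.rev_injective e).symm)
      (A.fa (-t * (A.d a / A.d b))) := by
  refine Units.ext ?_
  ext i j
  rw [A.theta_apply]
  show A.fa ((1 + Matrix.single a b (-t) : Matrix (Fin N) (Fin N) F) j.rev i.rev * _) =
    (1 + Matrix.single b.rev a.rev _ : Matrix (Fin N) (Fin N) F) i j
  by_cases h : a = j.rev ∧ b = i.rev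
  · obtain ⟨rfl, rfl⟩ := h
    have hne : i ≠ j := fun e => hab (by rw [e])
    simp [Matrix.add_apply, one_apply, hne, fun e : j.rev = i.rev => hab e, Fin.rev_rev]
  · have h' : ¬ (b.rev = i ∧ a.rev = j) := fun ⟨e1, e2⟩ => h ⟨by rw [← e2, Fin.rev_rev], by rw [← e1, Fin.rev_rev]⟩
    rw [Matrix.add_apply, Matrix.add_apply, Matrix.single_apply, Matrix.single_apply, if_neg h, if_neg h',
      add_zero, add_zero]
    by_cases hij : i = j
    · subst hij; simp [div_self (A.d_ne i.rev)]
    · rw [one_apply_ne hij, one_apply_ne (fun e => hij (Fin.rev_injective e).symm), zero_mul, map_zero]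

/-- A fixed invertible matrix in the Levi subgroup of an orbit, upper unitriangular with a nonzero entry next to the
diagonal. -/
theorem exists_root (hodd : N % 2 = 1 → (∀ k, A.d k = 1) ∧ ∃ z, z + A.fa z = 1)
    (hmid : ∀ k : Fin N, k.rev.val = k.val + 1 → ∃ t, t ≠ 0 ∧ A.fa (-t * (A.d k / A.d k.rev)) = t)
    (i : Idx N) : ∃ g : GL (Fin N) F, A.theta g = g ∧
      (∀ a b, (g : Matrix (Fin N) (Fin N) F) a b ≠ 0 → lab i a = lab i b ∧ a ≤ b) ∧
      (∀ a, (g : Matrix (Fin N) (Fin N) F) a a = 1) ∧
      (g : Matrix (Fin N) (Fin N) F) (pA i) (pB i) ≠ 0 ∧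
      (g : Matrix (Fin N) (Fin N) F) (pB i).rev (pA i).rev ≠ 0 := by
  have hi := i.2
  have eA : (pA i).val = i.1 := rfl
  have eB : (pB i).val = i.1 + 1 := rfl
  have eA' : ((pA i).rev).val = N - (i.1 + 1) := Fin.val_rev _
  have eB' : ((pB i).rev).val = N - (i.1 + 2) := Fin.val_rev _
  have hAB := lab_pA_pB i
  have hAB' := lab_rev_eq i hAB
  by_cases hE : i.1 = N - 2 - i.1
  · have e : (pA i).rev = pB i := Fin.ext (by omega)
    obtain ⟨t, ht, ht'⟩ := hmid (pA i) (by omega)
    rw [e] at ht'
    refine ⟨elem (pA_ne_pB i) t, ?_, ?_, ?_, ?_, ?_⟩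
    · rw [A.theta_elem, ht']
      refine Units.ext ?_
      rw [elem_val, elem_val, show (pB i).rev = pA i by rw [← e, Fin.rev_rev], e]
    · intro a b hab
      rw [elem_val, Matrix.add_apply, one_apply, Matrix.single_apply] at hab
      by_cases h1 : a = b
      · exact ⟨by rw [h1], h1.le⟩
      · rw [if_neg h1, zero_add] at hab
        obtain ⟨rfl, rfl⟩ : pA i = a ∧ pB i = b := by by_contra hc; rw [if_neg hc] at hab; exact hab rfl
        exact ⟨hAB, Fin.le_def.2 (by omega)⟩
    · intro a
      rw [elem_val, Matrix.add_apply, one_apply_eq, Matrix.single_apply,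
        if_neg (fun h => pA_ne_pB i (h.1.trans h.2.symm)), add_zero]
    · simpa [elem_val, Matrix.add_apply, one_apply_ne (pA_ne_pB i)] using ht
    · rw [show (pB i).rev = pA i by rw [← e, Fin.rev_rev], e]
      simpa [elem_val, Matrix.add_apply, one_apply_ne (pA_ne_pB i)] using ht
  have hne1 : pA i ≠ pB i := pA_ne_pB i
  have hne2 : (pB i).rev ≠ (pA i).rev := fun e => hne1 (Fin.rev_injective e).symm
  by_cases hO : i.1 + 1 = N - 2 - i.1
  · obtain ⟨hd, z, hz⟩ := hodd (by omega)
    have e : (pB i).rev = pB i := Fin.ext (by omega)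
    have hne3 : pA i ≠ (pA i).rev := fun h => by rw [Fin.ext_iff] at h; omega
    have hne4 : pB i ≠ (pA i).rev := e ▸ hne2
    let g : GL (Fin N) F := elem hne1 (-1) * elem hne4 1 * elem hne3 z
    have hg : (g : Matrix (Fin N) (Fin N) F) = 1 + Matrix.single (pA i) (pB i) (-1) +
        Matrix.single (pB i) (pA i).rev 1 + Matrix.single (pA i) (pA i).rev (z - 1) := by
      show (1 + Matrix.single _ _ _) * (1 + Matrix.single _ _ _) * (1 + Matrix.single _ _ _) = _
      simp only [Matrix.add_mul, Matrix.mul_add, one_mul, mul_one, Matrix.single_mul_single_same,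
        Matrix.single_mul_single_of_ne _ _ _ _ hne3.symm]
      rw [Matrix.single_mul_single_of_ne _ _ _ _ hne1.symm, _root_.add_zero, sub_eq_add_neg,
        Matrix.single_add]
      abel
    refine ⟨g, ?_, ?_, ?_, ?_, ?_⟩
    · have h1 : A.theta (elem hne1 (-1)) = elem hne4 1 := by
        rw [A.theta_elem]; refine Units.ext ?_
        simp [elem_val, e, hd]
      have h2 : A.theta (elem hne4 1) = elem hne1 (-1) := by
        rw [A.theta_elem]; refine Units.ext ?_
        simp [elem_val, e, hd, Fin.rev_rev]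
      have h3 : A.theta (elem hne3 z) = elem hne3 (z - 1) := by
        rw [A.theta_elem]; refine Units.ext ?_
        simp only [elem_val, hd, Fin.rev_rev, div_one, mul_one, map_neg]
        congr 2
        linear_combination -hz
      show A.theta (_ * _ * _) = _
      rw [map_mul, map_mul, h1, h2, h3]
      refine Units.ext ?_
      rw [hg]
      show (1 + Matrix.single _ _ _) * (1 + Matrix.single _ _ _) * (1 + Matrix.single _ _ _) = _
      simp only [Matrix.add_mul, Matrix.mul_add, one_mul, mul_one,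
        Matrix.single_mul_single_of_ne _ _ _ _ hne3.symm]
      rw [Matrix.single_mul_single_of_ne _ _ _ _ hne1.symm, _root_.add_zero]
      abel_nf
      simp [add_assoc]
    · intro a b hab
      rw [hg] at hab
      by_cases h1 : a = b
      · exact ⟨by rw [h1], h1.le⟩
      by_cases h2 : pA i = a ∧ pB i = b
      · obtain ⟨rfl, rfl⟩ := h2; exact ⟨hAB, Fin.le_def.2 (by omega)⟩
      by_cases h3 : pB i = a ∧ (pA i).rev = b
      · obtain ⟨rfl, rfl⟩ := h3; exact ⟨hAB.symm.trans (lab_pA_rev hO), Fin.le_def.2 (by omega)⟩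
      by_cases h4 : pA i = a ∧ (pA i).rev = b
      · obtain ⟨rfl, rfl⟩ := h4; exact ⟨lab_pA_rev hO, Fin.le_def.2 (by omega)⟩
      exfalso; exact hab (by simp [Matrix.add_apply, one_apply_ne h1, Matrix.single_apply, h2, h3, h4])
    · intro a
      rw [hg]
      simp only [Matrix.add_apply, one_apply_eq, Matrix.single_apply]
      rw [if_neg (fun h => hne1 (h.1.trans h.2.symm)), if_neg (fun h => hne4 (h.1.trans h.2.symm)),
        if_neg (fun h => hne3 (h.1.trans h.2.symm))]
      simp
    · rw [hg]
      simp [Matrix.add_apply, one_apply_ne hne1, Matrix.single_apply, hne1, hne1.symm, hne4.symm]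
    · rw [e, hg]
      simp [Matrix.add_apply, one_apply_ne hne4, Matrix.single_apply, hne1, hne1.symm, hne4]
  · have n1 : pB i ≠ (pB i).rev := fun h => by rw [Fin.ext_iff] at h; omega
    have n2 : (pA i).rev ≠ pA i := fun h => by rw [Fin.ext_iff] at h; omega
    let c : F := A.fa (-1 * (A.d (pA i) / A.d (pB i)))
    have hcv : c = -(A.fa (A.d (pA i) / A.d (pB i))) := by simp [c]
    have hc0 : c ≠ 0 := by simp [c, A.d_ne]
    let g : GL (Fin N) F := elem hne1 1 * elem hne2 c
    have hg : (g : Matrix (Fin N) (Fin N) F) =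
        1 + Matrix.single (pA i) (pB i) 1 + Matrix.single (pB i).rev (pA i).rev c := by
      show (1 + Matrix.single _ _ _) * (1 + Matrix.single _ _ _) = _
      simp only [Matrix.add_mul, Matrix.mul_add, one_mul, mul_one]
      rw [Matrix.single_mul_single_of_ne _ _ _ _ n1]
      abel
    refine ⟨g, ?_, ?_, ?_, ?_, ?_⟩
    · have h1 : A.theta (elem hne1 1) = elem hne2 c := A.theta_elem hne1 1
      have h2 : A.theta (elem hne2 c) = elem hne1 1 := by
        rw [A.theta_elem]; refine Units.ext ?_
        simp only [elem_val, Fin.rev_rev]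
        congr 2
        rw [A.d_rev (pB i), A.d_rev (pA i)]
        have hs : A.sgn ≠ 0 := fun h => A.d_ne (pA i).rev (by rw [A.d_rev, h, zero_mul])
        rw [mul_div_mul_left _ _ hs]
        have hu : A.d (pA i) / A.d (pB i) = 1 ∨ A.d (pA i) / A.d (pB i) = -1 :=
          mul_self_eq_one_iff.1 (by rw [div_mul_div_comm, A.d_sq, A.d_sq, div_one])
        rw [hcv, ← inv_div (A.d (pA i)) (A.d (pB i))]
        rcases hu with e | e <;> simp [e]
      show A.theta (_ * _) = _
      rw [map_mul, h1, h2]
      refine Units.ext ?_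
      rw [hg]
      show (1 + Matrix.single _ _ _) * (1 + Matrix.single _ _ _) = _
      simp only [Matrix.add_mul, Matrix.mul_add, one_mul, mul_one]
      rw [Matrix.single_mul_single_of_ne _ _ _ _ n2]
      abel
    · intro a b hab
      rw [hg] at hab
      by_cases h1 : a = b
      · exact ⟨by rw [h1], h1.le⟩
      by_cases h2 : pA i = a ∧ pB i = b
      · obtain ⟨rfl, rfl⟩ := h2; exact ⟨hAB, Fin.le_def.2 (by omega)⟩
      by_cases h3 : (pB i).rev = a ∧ (pA i).rev = b
      · obtain ⟨rfl, rfl⟩ := h3; exact ⟨hAB'.symm, Fin.le_def.2 (by omega)⟩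
      exfalso; exact hab (by simp [Matrix.add_apply, one_apply_ne h1, Matrix.single_apply, h2, h3])
    · intro a
      rw [hg]
      simp only [Matrix.add_apply, one_apply_eq, Matrix.single_apply]
      rw [if_neg (fun h => hne1 (h.1.trans h.2.symm)), if_neg (fun h => hne2 (h.1.trans h.2.symm))]
      simp
    · rw [hg]
      have : ¬ ((pB i).rev = pA i ∧ (pA i).rev = pB i) := fun h => by
        have := congrArg Fin.val h.1; omega
      simp [Matrix.add_apply, one_apply_ne hne1, Matrix.single_apply, this]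
    · rw [hg]
      have : ¬ (pA i = (pB i).rev ∧ pB i = (pA i).rev) := fun h => by
        have := congrArg Fin.val h.1; omega
      simp [Matrix.add_apply, one_apply_ne hne2, Matrix.single_apply, this, hc0]

end Anti

end CfsgLib.TwistedFlags
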