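import Cfsg.Agent.Lib.Char.Exceptional.Twisted.Main
import Cfsg.Agent.Lib.Classical.Unitary.Matrix

/-!
# The realisation of the special unitary group by an antidiagonal form
-/

set_option autoImplicit false

namespace CfsgLib.TwistedFlags.Unitary

open Matrix Finset CfsgLib.Classical CfsgLib.Classical.Herm

variable {n q : ℕ} {F : Type*} [Field F] [Fintype F] (hF : Fintype.card F = q ^ 2)

/-- The field automorphism. -/
noncomputable def aut : F ≃+* F :=
  RingEquiv.ofRingHom (powHom hF) (powHom hF) (RingHom.ext fun a => (powHom_isInvol hF).invol a)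
    (RingHom.ext fun a => (powHom_isInvol hF).invol a)

theorem aut_apply (x : F) : aut hF x = x ^ q := rfl

/-- The form. -/
noncomputable def anti (n : ℕ) : Anti n F where
  fa := aut hF
  fa_invol a := (powHom_isInvol hF).invol a
  d _ := 1
  d_sq _ := mul_one 1
  sgn := 1
  d_rev _ := (mul_one 1).symm

/-- The antidiagonal Hermitian form. -/
noncomputable def revForm (n : ℕ) : (Fin n → F) →ₛₗ[powHom hF] (Fin n → F) →ₗ[F] F :=
  LinearMap.mk₂'ₛₗ (powHom hF) (RingHom.id F) (fun x y => ∑ k, powHom hF (x k) * y k.rev)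
    (fun x x' y => by simp only [← sum_add_distrib, Pi.add_apply, map_add, add_mul])
    (fun a x y => by simp only [Pi.smul_apply, smul_eq_mul, mul_sum, map_mul, mul_assoc])
    (fun x y y' => by simp only [← sum_add_distrib, Pi.add_apply, mul_add])
    (fun a x y => by
      simp only [Pi.smul_apply, smul_eq_mul, mul_sum, RingHom.id_apply]
      exact sum_congr rfl fun k _ => mul_left_comm _ _ _)

theorem revForm_apply (x y : Fin n → F) : revForm hF n x y = ∑ k, powHom hF (x k) * y k.rev := rfl

theorem revForm_isHerm : IsHerm (revForm hF n) where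
  invol := powHom_isInvol hF
  symm x y := by
    rw [revForm_apply, revForm_apply, map_sum,
      ← Equiv.sum_comp (Fin.revPerm (n := n)) fun k => powHom hF (y k) * x k.rev]
    refine sum_congr rfl fun k _ => ?_
    rw [map_mul, (powHom_isInvol hF).invol, Fin.revPerm_apply, Fin.rev_rev, mul_comm]
  nondeg x hx := by
    funext k
    have h := hx (Pi.single k.rev 1)
    rw [revForm_apply, sum_eq_single k (fun j _ hj => by simp [hj])
      (fun h => absurd (mem_univ _) h), Pi.single_eq_same, mul_one] at h
    exact (IsInvol.apply_eq_zero_iff (σ := powHom hF)).1 h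

theorem exists_change : ∃ P : GL (Fin n) F,
    (P : Matrix (Fin n) (Fin n) F)ᵀ * (anti hF n).form * (P : Matrix (Fin n) (Fin n) F).map (anti hF n).fa = 1 := by
  obtain ⟨b, hb⟩ := (revForm_isHerm (n := n) hF).exists_orthonormal_basis (Module.finrank_fin_fun F)
  let M : Matrix (Fin n) (Fin n) F := Matrix.of fun k i => b i k
  have h : Mᵀ * (anti hF n).form * M.map (anti hF n).fa = 1 := by
    ext i j
    rw [Matrix.mul_assoc, mul_apply, one_apply]
    have h' := hb j i
    rw [revForm_apply, ← Equiv.sum_comp (Fin.revPerm (n := n))] at h'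
    rw [show (if i = j then (1 : F) else 0) = if j = i then 1 else 0 from if_congr eq_comm rfl rfl, ← h']
    refine sum_congr rfl fun k _ => ?_
    rw [Anti.form_mul, Fin.revPerm_apply, Fin.rev_rev, mul_comm]
    show 1 * (powHom hF (b j k.rev)) * b i k = _
    rw [one_mul]
  have hu : IsUnit M.det := by
    have h2 := congrArg Matrix.det h
    rw [det_mul, det_mul, det_transpose, det_one] at h2
    refine IsUnit.of_mul_eq_one ((anti hF n).form.det * (M.map (anti hF n).fa).det) ?_
    rw [← h2, mul_assoc]
  exact ⟨Matrix.nonsingInvUnit M hu, h⟩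

/-- The change of basis. -/
noncomputable def change : GL (Fin n) F := (exists_change (n := n) hF).choose

theorem change_spec : (change (n := n) hF : Matrix (Fin n) (Fin n) F)ᵀ * (anti hF n).form *
    (change (n := n) hF : Matrix (Fin n) (Fin n) F).map (anti hF n).fa = 1 :=
  (exists_change (n := n) hF).choose_spec

theorem preserves_iff (M : Matrix (Fin n) (Fin n) F) :
    (∀ u v, Cfsg.hermForm n F q (M *ᵥ u) (M *ᵥ v) = Cfsg.hermForm n F q u v) ↔
      Mᵀ * M.map (anti hF n).fa = 1 := by
  have e : ∀ u v : Fin n → F, Cfsg.hermForm n F q (M *ᵥ u) (M *ᵥ v) =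
      u ⬝ᵥ ((Mᵀ * M.map (anti hF n).fa) *ᵥ fun i => v i ^ q) := by
    intro u v
    rw [← mulVec_mulVec, dotProduct_mulVec, vecMul_transpose]
    refine sum_congr rfl fun i _ => ?_
    congr 1
    show (∑ j, M i j * v j) ^ q = ∑ j, (M i j) ^ q * v j ^ q
    rw [← powHom_apply hF, map_sum]
    exact sum_congr rfl fun j _ => mul_pow _ _ _
  constructor
  · intro h
    ext i j
    have h' := h (Pi.single i 1) (Pi.single j 1)
    rw [e] at h'
    have hz : (fun k => (Pi.single j (1 : F) : Fin n → F) k ^ q) = Pi.single j 1 := funext fun k => by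
      have hq : q ≠ 0 := by have := two_le_of_card_sq hF; omega
      by_cases hk : k = j
      · subst hk; simp
      · simp [Pi.single_eq_of_ne hk, zero_pow hq]
    rw [hz, single_one_dotProduct, mulVec_single_one] at h'
    rw [col_apply] at h'
    rw [h']
    show ∑ k, (Pi.single i (1 : F) : Fin n → F) k * ((Pi.single j (1 : F) : Fin n → F) k) ^ q = _
    rw [sum_eq_single i (fun k _ hk => by simp [hk]) (fun h => absurd (mem_univ _) h), Pi.single_eq_same,
      one_mul, show (Pi.single j (1 : F) : Fin n → F) i ^ q = (Pi.single j 1 : Fin n → F) i from congrFun hz i,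
      one_apply, Pi.single_apply]
  · intro h u v
    rw [e, h, one_mulVec]
    rfl

/-- The matrix homomorphism. -/
noncomputable def φ : Cfsg.SU n F q →* GL (Fin n) F :=
  ((MulAut.conj (change (n := n) hF)).toMonoidHom.comp Matrix.SpecialLinearGroup.toGL).comp (Cfsg.SU n F q).subtype

theorem φ_apply (g : Cfsg.SU n F q) :
    φ hF g = change hF * Matrix.SpecialLinearGroup.toGL (g : Matrix.SpecialLinearGroup (Fin n) F) * (change hF)⁻¹ :=
  rfl

theorem map_mul_fa (A B : Matrix (Fin n) (Fin n) F) :
    (A * B).map (anti hF n).fa = A.map (anti hF n).fa * B.map (anti hF n).fa :=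
  Matrix.map_mul (f := (anti hF n).fa.toRingHom)

theorem isometry_iff (g : GL (Fin n) F) :
    ((change hF * g * (change hF)⁻¹ : GL (Fin n) F) : Matrix (Fin n) (Fin n) F)ᵀ * (anti hF n).form *
        ((change hF * g * (change hF)⁻¹ : GL (Fin n) F) : Matrix (Fin n) (Fin n) F).map (anti hF n).fa =
      (anti hF n).form ↔
    (g : Matrix (Fin n) (Fin n) F)ᵀ * (g : Matrix (Fin n) (Fin n) F).map (anti hF n).fa = 1 := by
  set P := change (n := n) hF
  set σ := (anti hF n).fa
  have hP := change_spec (n := n) hF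
  have hQ : ((P⁻¹ : GL (Fin n) F) : Matrix (Fin n) (Fin n) F)ᵀ *
      ((P⁻¹ : GL (Fin n) F) : Matrix (Fin n) (Fin n) F).map σ = (anti hF n).form := by
    calc _ = ((P⁻¹ : GL (Fin n) F) : Matrix (Fin n) (Fin n) F)ᵀ * ((P : Matrix (Fin n) (Fin n) F)ᵀ *
          (anti hF n).form * (P : Matrix (Fin n) (Fin n) F).map σ) *
            ((P⁻¹ : GL (Fin n) F) : Matrix (Fin n) (Fin n) F).map σ := by rw [hP, mul_one]
      _ = _ := by
        rw [← mul_assoc, ← mul_assoc, ← transpose_mul, ← Units.val_mul, mul_inv_cancel, Units.val_one,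
          transpose_one, one_mul, mul_assoc, ← map_mul_fa, ← Units.val_mul, mul_inv_cancel, Units.val_one,
          Matrix.map_one _ (map_zero _) (map_one _), mul_one]
  have key : ((P * g * P⁻¹ : GL (Fin n) F) : Matrix (Fin n) (Fin n) F)ᵀ * (anti hF n).form *
      ((P * g * P⁻¹ : GL (Fin n) F) : Matrix (Fin n) (Fin n) F).map σ =
      ((P⁻¹ : GL (Fin n) F) : Matrix (Fin n) (Fin n) F)ᵀ *
        ((g : Matrix (Fin n) (Fin n) F)ᵀ * (g : Matrix (Fin n) (Fin n) F).map σ) *
          ((P⁻¹ : GL (Fin n) F) : Matrix (Fin n) (Fin n) F).map σ := by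
    rw [Units.val_mul, Units.val_mul, transpose_mul, transpose_mul, map_mul_fa, map_mul_fa]
    calc _ = ((P⁻¹ : GL (Fin n) F) : Matrix (Fin n) (Fin n) F)ᵀ * (g : Matrix (Fin n) (Fin n) F)ᵀ *
          ((P : Matrix (Fin n) (Fin n) F)ᵀ * (anti hF n).form * (P : Matrix (Fin n) (Fin n) F).map σ) *
            (g : Matrix (Fin n) (Fin n) F).map σ * ((P⁻¹ : GL (Fin n) F) : Matrix (Fin n) (Fin n) F).map σ := by
          simp only [mul_assoc]; rfl
      _ = _ := by rw [hP, mul_one]; simp only [mul_assoc]
  rw [key]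
  constructor
  · intro h
    conv_rhs at h => rw [← hQ]
    have h' := congrArg (fun X => (P : Matrix (Fin n) (Fin n) F)ᵀ * X * (P : Matrix (Fin n) (Fin n) F).map σ) h
    simp only [← mul_assoc] at h'
    rw [← transpose_mul, ← Units.val_mul, inv_mul_cancel, Units.val_one, transpose_one, one_mul, one_mul,
      mul_assoc _ _ ((P : Matrix (Fin n) (Fin n) F).map σ), ← map_mul_fa, ← Units.val_mul, inv_mul_cancel,
      Units.val_one, Matrix.map_one _ (map_zero _) (map_one _), mul_one] at h'
    exact h'
  · intro h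
    rw [h, mul_one, hQ]

theorem fixed (g : Cfsg.SU n F q) : (anti hF n).theta (φ hF g) = φ hF g :=
  (anti hF n).theta_eq_self ((isometry_iff hF _).2 ((preserves_iff hF _).1 g.2))

theorem mem_range {u : GL (Fin n) F} (h : (anti hF n).theta u = u)
    (hdet : (u : Matrix (Fin n) (Fin n) F).det = 1) : u ∈ (φ (n := n) hF).range := by
  have h1 := (anti hF n).isometry_of_fixed h
  rw [show u = change hF * ((change hF)⁻¹ * u * change hF) * (change hF)⁻¹ by group, isometry_iff] at h1
  have hd : (((change hF)⁻¹ * u * change hF : GL (Fin n) F) : Matrix (Fin n) (Fin n) F).det = 1 := by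
    rw [Units.val_mul, Units.val_mul, det_mul, det_mul, hdet, mul_one, ← det_mul, ← Units.val_mul, inv_mul_cancel,
      Units.val_one, det_one]
  refine ⟨⟨⟨_, hd⟩, (preserves_iff hF _).2 h1⟩, ?_⟩
  rw [φ_apply]
  rw [show Matrix.SpecialLinearGroup.toGL (⟨_, hd⟩ : Matrix.SpecialLinearGroup (Fin n) F) =
    (change hF)⁻¹ * u * change hF from Units.ext rfl]
  group

/-- The realisation. -/
noncomputable def realisation : Realisation (anti hF n) (Cfsg.SU n F q) where
  φ := φ hF
  inj g h e := by
    rw [φ_apply, φ_apply, mul_left_inj, mul_right_inj] at e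
    exact Subtype.ext (Matrix.SpecialLinearGroup.toGL_injective e)
  fixed := fixed hF
  upper u hu h := mem_range hF h (by
    rw [Matrix.det_of_isUpperTriangular (mem_uni.1 hu).1]
    exact prod_eq_one fun k _ => (mem_uni.1 hu).2 k)
  lower v h hlow hdiag := mem_range hF h (by
    rw [← det_transpose, Matrix.det_of_isUpperTriangular (M := (v : Matrix (Fin n) (Fin n) F)ᵀ) (fun a b hab => hlow b a hab)]
    exact prod_eq_one fun k _ => hdiag k)
  roots := (anti hF n).exists_root
    (fun _ => ⟨fun _ => rfl, (powHom_isInvol hF).exists_trace_eq (map_one _)⟩) fun k _ => by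
    obtain ⟨x, hx⟩ : ∃ x, powHom hF x ≠ x := by
      by_contra h
      push Not at h
      exact (powHom_isInvol hF).ne_id (RingHom.ext h)
    refine ⟨x - powHom hF x, sub_ne_zero.2 hx.symm, ?_⟩
    show powHom hF (-(x - powHom hF x) * (1 / 1)) = _
    rw [div_one, mul_one, map_neg, map_sub, (powHom_isInvol hF).invol, neg_sub]

end CfsgLib.TwistedFlags.Unitary
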